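import Cfsg.Agent.Lib.Helper15.BG13CDefs2
import Cfsg.Agent.S1424
import Cfsg.Agent.Lib.Helper3.BG12Pieces

/-!
# B&G Corollary 13.3(b) (row S1428), piece C-GAM: the Sylow transfer in the last case
(project of helper15, piece by helper17)
-/

set_option autoImplicit false

open Cfsg Cfsg.Agent.Lib.Helper32 Cfsg.Agent.Lib.Helper32.BG10 Cfsg.Agent.Lib.Helper3.BG12

namespace Cfsg.Agent.Lib.Helper15.BG13C

universe u

variable {G : Type u} [Group G] [Finite G]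

theorem gam : GamStmt G := by
  intro hG M H hM hH hne q _ hqM hqH Q X hQ hXQ hX1 hNX
  have hQq : IsPGroup q Q := isPGroup_of_mem_sylSet hQ
  have hXq : IsPGroup q X := hQq.to_le hXQ
  have hσM : sigmaCore M ≤ M := by
    rintro x ⟨y, -, rfl⟩; exact y.2
  have hQY : Q ≤ sigmaCore M ⊓ H := hQ.1
  have hXMH : X ≤ M ⊓ H := hXQ.trans (hQY.trans (inf_le_inf_right H hσM))
  obtain ⟨S', hS', hXS'⟩ := exists_sylSet_ge hXq hXMH
  obtain ⟨S, hS⟩ := exists_sylow_of_mem_sylSet hS'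
  have hXM : X ≤ M := hXMH.trans inf_le_left
  have hXS : X ≤ (S : Subgroup ↥(M ⊓ H)).map (M ⊓ H).subtype := by rw [hS]; exact hXS'
  obtain ⟨-, -, hnd⟩ := Cfsg.Agent.S1424.result hG M hM q hqM X hXq hX1 hXM H hH
    (fun h => hne h.symm) hNX S hXS
  rw [hS] at hnd
  have hS'q : IsPGroup q S' := isPGroup_of_mem_sylSet hS'
  have hS'MH : S' ≤ M ⊓ H := hS'.1
  have hS'M : S' ≤ M := hS'MH.trans inf_le_left
  have hS'H : S' ≤ H := hS'MH.trans inf_le_right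
  -- `S'` is a Sylow `q`-subgroup of `H`
  have hnd' : ¬ q ∣ (M ⊓ H).relIndex H := by
    intro hd
    apply hnd
    rw [← Subgroup.relIndex_mul_relIndex S' (M ⊓ H) H hS'MH inf_le_right]
    exact Dvd.dvd.mul_left hd _
  have hS'sylH : S' ∈ sylSet q H :=
    Cfsg.Agent.Lib.Helper78.BG12.sylSet_of_not_dvd inf_le_right hnd' hS'
  -- `S' ≤ M_σ ⊓ H`
  have hS'σ : S' ≤ sigmaCore M :=
    Cfsg.Agent.Lib.Helper3.BG12S.pgroup_le_sigmaCore hG hM hqM hS'q hS'M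
  have hS'Y : S' ≤ sigmaCore M ⊓ H := le_inf hS'σ hS'H
  have hS'sylY : S' ∈ sylSet q (sigmaCore M ⊓ H) :=
    Cfsg.Agent.Lib.Helper78.BG12.sylSet_of_le hS'sylH hS'Y inf_le_right
  -- `Q` is a Sylow `q`-subgroup of `H`
  have hQH : Q ≤ H := hQY.trans inf_le_right
  have hQM : Q ≤ M := hQY.trans (inf_le_left.trans hσM)
  have hQsylH : Q ∈ sylSet q H := by
    refine ⟨hQH, ?_⟩
    rw [hQ.2, ← hS'sylY.2, hS'sylH.2]
  obtain ⟨hNH, hQtop⟩ := sigma_sylSet hqH hQsylH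
  have hQsylM : Q ∈ sylSet q M :=
    Cfsg.Agent.Lib.Helper78.BG12.sylSet_of_le hQtop hQM le_top
  obtain ⟨hNM, -⟩ := sigma_sylSet hqM hQsylM
  exact ⟨hQtop, hNM, hNH⟩

end Cfsg.Agent.Lib.Helper15.BG13C
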