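import Mathlib

/-!
# Regular subgroups of permutation groups: the induced action of `G` on the regular subgroup

`A ≤ G` acts regularly on `Ω` (the map `a ↦ a • ω₀` is a bijection `A → Ω`).  We transport the
action of `G` on `Ω` to `A` (`rAct`) and study the subsets of `A` invariant under the
stabilizer of `ω₀` (Schur's method, without the group ring).
-/

set_option autoImplicit false

namespace Cfsg.Agent.Lib.Helper17

open scoped Pointwise

section Reg

variable {G : Type*} [Group G] {Ω : Type*} [MulAction G Ω] {A : Subgroup G} {ω₀ : Ω}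

/-- The action of `g ∈ G` on the regular subgroup `A`, transported from `Ω`. -/
noncomputable def rAct (hreg : Function.Bijective (fun a : A => (a : G) • ω₀)) (g : G) (a : A) : A :=
  (Equiv.ofBijective _ hreg).symm (g • (a : G) • ω₀)

variable (hreg : Function.Bijective (fun a : A => (a : G) • ω₀))

theorem rAct_spec (g : G) (a : A) : ((rAct hreg g a : A) : G) • ω₀ = g • (a : G) • ω₀ :=
  (Equiv.ofBijective _ hreg).apply_symm_apply (g • (a : G) • ω₀)

theorem rAct_unique {g : G} {a a' : A} (h : (a' : G) • ω₀ = g • (a : G) • ω₀) :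
    rAct hreg g a = a' := by
  apply hreg.1
  show ((rAct hreg g a : A) : G) • ω₀ = (a' : G) • ω₀
  rw [rAct_spec, h]

theorem rAct_one (a : A) : rAct hreg 1 a = a :=
  rAct_unique hreg (by rw [one_smul])

theorem rAct_mul (g h : G) (a : A) : rAct hreg (g * h) a = rAct hreg g (rAct hreg h a) :=
  rAct_unique hreg (by rw [rAct_spec, rAct_spec, mul_smul])

theorem rAct_coe (b a : A) : rAct hreg (b : G) a = b * a :=
  rAct_unique hreg (by rw [Subgroup.coe_mul, mul_smul])

theorem rAct_fix {g : G} (hg : g • ω₀ = ω₀) : rAct hreg g 1 = 1 :=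
  rAct_unique hreg (by rw [Subgroup.coe_one, one_smul, hg])

theorem rAct_inv_left (g : G) (a : A) : rAct hreg g⁻¹ (rAct hreg g a) = a := by
  rw [← rAct_mul, inv_mul_cancel, rAct_one]

theorem rAct_inv_right (g : G) (a : A) : rAct hreg g (rAct hreg g⁻¹ a) = a := by
  rw [← rAct_mul, mul_inv_cancel, rAct_one]

theorem rAct_injective (g : G) : Function.Injective (rAct hreg g) := by
  intro a b h
  have := congrArg (rAct hreg g⁻¹) h
  rwa [rAct_inv_left, rAct_inv_left] at this

/-- `rAct g` as a permutation of `A`. -/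
noncomputable def rActEquiv (g : G) : A ≃ A where
  toFun := rAct hreg g
  invFun := rAct hreg g⁻¹
  left_inv := rAct_inv_left hreg g
  right_inv := rAct_inv_right hreg g

@[simp] theorem rActEquiv_apply (g : G) (a : A) : rActEquiv hreg g a = rAct hreg g a := rfl

/-- The key property: `G` preserves the relations `x⁻¹ * y ∈ T` up to the stabilizer of `ω₀`. -/
theorem rAct_key (g : G) (x y : A) :
    ∃ g₁ : G, g₁ • ω₀ = ω₀ ∧ (rAct hreg g x)⁻¹ * rAct hreg g y = rAct hreg g₁ (x⁻¹ * y) := by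
  refine ⟨((rAct hreg g x : A) : G)⁻¹ * g * (x : G), ?_, ?_⟩
  · rw [mul_smul, mul_smul, ← rAct_spec hreg g x, inv_smul_smul]
  · symm
    apply rAct_unique hreg
    rw [Subgroup.coe_mul, Subgroup.coe_mul, Subgroup.coe_inv, Subgroup.coe_inv, mul_smul,
      mul_smul, mul_smul, mul_smul, smul_inv_smul, rAct_spec]

/-- Invariance of a subset of `A` under the stabilizer of the base point. -/
def RInv (T : Set A) : Prop := ∀ g : G, g • ω₀ = ω₀ → ∀ a ∈ T, rAct hreg g a ∈ T

variable {hreg}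

theorem RInv.mem_iff {T : Set A} (hT : RInv hreg T) {g : G} (hg : g • ω₀ = ω₀) (a : A) :
    rAct hreg g a ∈ T ↔ a ∈ T := by
  constructor
  · intro h
    have hg' : g⁻¹ • ω₀ = ω₀ := by rw [inv_smul_eq_iff, hg]
    have := hT g⁻¹ hg' _ h
    rwa [rAct_inv_left] at this
  · exact hT g hg a

theorem RInv.rel {T : Set A} (hT : RInv hreg T) (g : G) {x y : A} (h : x⁻¹ * y ∈ T) :
    (rAct hreg g x)⁻¹ * rAct hreg g y ∈ T := by
  obtain ⟨g₁, hg₁, he⟩ := rAct_key hreg g x y
  rw [he]
  exact hT g₁ hg₁ _ h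

theorem RInv.rel_iff {T : Set A} (hT : RInv hreg T) (g : G) (x y : A) :
    (rAct hreg g x)⁻¹ * rAct hreg g y ∈ T ↔ x⁻¹ * y ∈ T := by
  constructor
  · intro h
    have := hT.rel g⁻¹ h
    rwa [rAct_inv_left, rAct_inv_left] at this
  · exact hT.rel g

theorem RInv.inter {T T' : Set A} (hT : RInv hreg T) (hT' : RInv hreg T') : RInv hreg (T ∩ T') :=
  fun g hg a ha => ⟨hT g hg a ha.1, hT' g hg a ha.2⟩

variable (hreg)

/-- The orbit of `a ∈ A` under the stabilizer of the base point. -/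
def rOrb (a : A) : Set A := {b | ∃ g : G, g • ω₀ = ω₀ ∧ rAct hreg g a = b}

theorem mem_rOrb_self (a : A) : a ∈ rOrb hreg a := ⟨1, one_smul _ _, rAct_one hreg a⟩

theorem rInv_rOrb (a : A) : RInv hreg (rOrb hreg a) := by
  rintro g hg b ⟨h, hh, rfl⟩
  exact ⟨g * h, by rw [mul_smul, hh, hg], rAct_mul hreg g h a⟩

variable {hreg}

theorem rOrb_subset {T : Set A} (hT : RInv hreg T) {a : A} (ha : a ∈ T) : rOrb hreg a ⊆ T := by
  rintro b ⟨g, hg, rfl⟩
  exact hT g hg a ha

theorem mem_rOrb_symm {a b : A} (h : b ∈ rOrb hreg a) : a ∈ rOrb hreg b := by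
  obtain ⟨g, hg, rfl⟩ := h
  exact ⟨g⁻¹, by rw [inv_smul_eq_iff, hg], rAct_inv_left hreg g a⟩

theorem rOrb_eq_of_mem {a b : A} (h : b ∈ rOrb hreg a) : rOrb hreg b = rOrb hreg a :=
  Set.Subset.antisymm (rOrb_subset (rInv_rOrb hreg a) h)
    (rOrb_subset (rInv_rOrb hreg b) (mem_rOrb_symm h))

theorem one_notMem_rOrb {a : A} (ha : a ≠ 1) : (1 : A) ∉ rOrb hreg a := by
  rintro ⟨g, hg, h⟩
  apply ha
  have h1 := rAct_fix hreg hg
  exact rAct_injective hreg g (h.trans h1.symm)

/-- Two orbits that meet are equal. -/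
theorem rOrb_eq_of_inter {a b c : A} (h1 : c ∈ rOrb hreg a) (h2 : c ∈ rOrb hreg b) :
    rOrb hreg a = rOrb hreg b := by
  rw [← rOrb_eq_of_mem h1, ← rOrb_eq_of_mem h2]

/-- The subgroup generated by an invariant set is invariant. -/
theorem RInv.closure {T : Set A} (hT : RInv hreg T) :
    RInv hreg (Subgroup.closure T : Set A) := by
  intro g hg a ha
  have hP : ∀ a ∈ Subgroup.closure T, ∀ g : G, g • ω₀ = ω₀ →
      rAct hreg g a ∈ Subgroup.closure T := by
    intro a ha
    induction ha using Subgroup.closure_induction with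
    | mem x hx => exact fun g hg => Subgroup.subset_closure (hT g hg x hx)
    | one => intro g hg; rw [rAct_fix hreg hg]; exact Subgroup.one_mem _
    | mul x y _ _ hx hy =>
      intro g hg
      obtain ⟨g₁, hg₁, he⟩ := rAct_key hreg g x (x * y)
      rw [inv_mul_cancel_left] at he
      have : rAct hreg g (x * y) = rAct hreg g x * rAct hreg g₁ y := by
        rw [← he, mul_inv_cancel_left]
      rw [this]
      exact Subgroup.mul_mem _ (hx g hg) (hy g₁ hg₁)
    | inv x _ hx =>
      intro g hg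
      obtain ⟨g₁, hg₁, he⟩ := rAct_key hreg g x⁻¹ 1
      rw [rAct_fix hreg hg, mul_one, inv_inv, mul_one] at he
      have : rAct hreg g x⁻¹ = (rAct hreg g₁ x)⁻¹ := by rw [← he, inv_inv]
      rw [this]
      exact Subgroup.inv_mem _ (hx g₁ hg₁)
  exact hP a ha g hg

/-- The (left) stabilizer of a finite invariant set is invariant. -/
theorem RInv.stabilizer [Finite A] {T : Set A} (hT : RInv hreg T) :
    RInv hreg (MulAction.stabilizer A T : Set A) := by
  intro g hg h hh
  have hh' : h ∈ MulAction.stabilizer A T := hh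
  have hinv : h⁻¹ ∈ MulAction.stabilizer A T := Subgroup.inv_mem _ hh'
  have hsub : (rAct hreg g h)⁻¹ • T ⊆ T := by
    rintro _ ⟨s, hs, rfl⟩
    have hu : rAct hreg g⁻¹ s ∈ T := hT g⁻¹ (by rw [inv_smul_eq_iff, hg]) s hs
    have h1 : h⁻¹ * rAct hreg g⁻¹ s ∈ T := by
      have : h⁻¹ • T = T := hinv
      rw [← this]
      exact Set.smul_mem_smul_set hu
    have h2 := hT.rel g h1
    rwa [rAct_inv_right] at h2
  have heq : (rAct hreg g h)⁻¹ • T = T := by
    apply Set.eq_of_subset_of_ncard_le hsub _ (Set.toFinite T)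
    rw [Set.ncard_smul_set]
  have : (rAct hreg g h)⁻¹ ∈ MulAction.stabilizer A T := heq
  have h3 := Subgroup.inv_mem _ this
  rwa [inv_inv] at h3

/-- In a primitive group, an invariant subgroup of the regular subgroup is trivial or everything. -/
theorem rInv_subgroup_trivial (hprim : MulAction.IsPreprimitive G Ω) (K : Subgroup A)
    (hK : RInv hreg (K : Set A)) : K = ⊥ ∨ K = ⊤ := by
  let B : Set Ω := (fun k : A => (k : G) • ω₀) '' (K : Set A)
  have hω : ω₀ ∈ B := ⟨1, K.one_mem, by simp⟩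
  have hstab : MulAction.stabilizer G ω₀ ≤ MulAction.stabilizer G B := by
    intro g hg
    have hg0 : g • ω₀ = ω₀ := hg
    have hsub : ∀ g : G, g • ω₀ = ω₀ → g • B ⊆ B := by
      rintro g hg _ ⟨_, ⟨k, hk, rfl⟩, rfl⟩
      exact ⟨rAct hreg g k, hK g hg k hk, rAct_spec hreg g k⟩
    apply Set.Subset.antisymm (hsub g hg0)
    have := hsub g⁻¹ (by rw [inv_smul_eq_iff, hg0])
    intro b hb
    have h2 := this (Set.smul_mem_smul_set hb)
    rw [Set.mem_smul_set_iff_inv_smul_mem]
    exact h2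
  have hKstab : ∀ k : A, k ∈ K → (k : G) ∈ MulAction.stabilizer G B := by
    have hsub : ∀ k : A, k ∈ K → (k : G) • B ⊆ B := by
      rintro k hk _ ⟨_, ⟨k', hk', rfl⟩, rfl⟩
      exact ⟨k * k', K.mul_mem hk hk', by simp [mul_smul]⟩
    intro k hk
    apply Set.Subset.antisymm (hsub k hk)
    intro b hb
    have h2 := hsub k⁻¹ (K.inv_mem hk) (Set.smul_mem_smul_set hb)
    rw [Set.mem_smul_set_iff_inv_smul_mem]
    simpa using h2
  have horb : MulAction.orbit (MulAction.stabilizer G B) ω₀ = B := by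
    apply Set.Subset.antisymm
    · rintro _ ⟨⟨h, hh⟩, rfl⟩
      have h1 : h • B = B := hh
      have h2 : h • ω₀ ∈ h • B := Set.smul_mem_smul_set hω
      rw [h1] at h2
      exact h2
    · rintro _ ⟨k, hk, rfl⟩
      exact ⟨⟨(k : G), hKstab k hk⟩, rfl⟩
  have hblock : MulAction.IsBlock G B := by
    rw [← horb]
    exact MulAction.IsBlock.of_orbit hstab
  rcases hprim.isTrivialBlock_of_isBlock hblock with h | h
  · left
    rw [eq_bot_iff]
    intro k hk
    have h1 : (k : G) • ω₀ ∈ B := ⟨k, hk, rfl⟩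
    have h2 := h h1 hω
    rw [Subgroup.mem_bot]
    apply hreg.1
    show (k : G) • ω₀ = ((1 : A) : G) • ω₀
    rw [h2, Subgroup.coe_one, one_smul]
  · right
    rw [eq_top_iff]
    intro a _
    have h1 : (a : G) • ω₀ ∈ B := by rw [h]; trivial
    obtain ⟨k, hk, hka⟩ := h1
    have : k = a := hreg.1 hka
    rw [← this]
    exact hk

/-- Invariance of the number of ways to write `h` as a product of two elements of an
invariant set. -/
theorem RInv.ncard_mul_inv [Finite A] {T : Set A} (hT : RInv hreg T) {g : G} (hg : g • ω₀ = ω₀)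
    (h : A) :
    {u : A | u ∈ T ∧ u⁻¹ * rAct hreg g h ∈ T}.ncard = {u : A | u ∈ T ∧ u⁻¹ * h ∈ T}.ncard := by
  have : {u : A | u ∈ T ∧ u⁻¹ * rAct hreg g h ∈ T} =
      rAct hreg g '' {u : A | u ∈ T ∧ u⁻¹ * h ∈ T} := by
    ext u
    constructor
    · rintro ⟨h1, h2⟩
      refine ⟨rAct hreg g⁻¹ u, ⟨?_, ?_⟩, rAct_inv_right hreg g u⟩
      · exact hT g⁻¹ (by rw [inv_smul_eq_iff, hg]) u h1
      · rw [← hT.rel_iff g, rAct_inv_right]
        exact h2
    · rintro ⟨v, ⟨h1, h2⟩, rfl⟩
      exact ⟨hT g hg v h1, (hT.rel_iff g v h).mpr h2⟩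
  rw [this, Set.ncard_image_of_injective _ (rAct_injective hreg g)]

end Reg

end Cfsg.Agent.Lib.Helper17
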