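import Cfsg.Agent.Lib.Helper17.BGroupA

/-!
# Schur's Frobenius argument for an abelian regular subgroup

For an invariant subset `T` of the abelian regular subgroup `A` and a prime `p`, the function
`y ↦ #{t ∈ T | t ^ p = y}` is invariant modulo `p`.  In a primitive group this forces
`T` to be a union of cosets of the `p`-torsion outside the `p`-torsion.
-/

set_option autoImplicit false

namespace Cfsg.Agent.Lib.Helper17

open scoped Pointwise

section Frob

variable {G : Type*} [Group G] {Ω : Type*} [MulAction G Ω] {A : Subgroup G} {ω₀ : Ω}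
  {hreg : Function.Bijective (fun a : A => (a : G) • ω₀)}

/-- Invariance of an element of the group algebra of `A` under the stabilizer of the base
point. -/
def SInv (hreg : Function.Bijective (fun a : A => (a : G) • ω₀)) {R : Type*} [Semiring R]
    (f : MonoidAlgebra R A) : Prop :=
  ∀ g : G, g • ω₀ = ω₀ → ∀ a : A, f.coeff (rAct hreg g a) = f.coeff a

theorem SInv.mul [Fintype A] {R : Type*} [Semiring R] {f f' : MonoidAlgebra R A}
    (hf : SInv hreg f) (hf' : SInv hreg f') : SInv hreg (f * f') := by
  intro g hg h
  rw [MonoidAlgebra.coeff_mul_apply_left, MonoidAlgebra.coeff_mul_apply_left]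
  rw [Finsupp.sum_fintype _ _ (by simp), Finsupp.sum_fintype _ _ (by simp)]
  rw [← Equiv.sum_comp (rActEquiv hreg g)]
  apply Finset.sum_congr rfl
  intro x _
  simp only [rActEquiv_apply]
  obtain ⟨g₁, hg₁, he⟩ := rAct_key hreg g x h
  rw [hf g hg x, he, hf' g₁ hg₁]

theorem SInv.pow_succ [Fintype A] {R : Type*} [Semiring R] {f : MonoidAlgebra R A}
    (hf : SInv hreg f) (n : ℕ) : SInv hreg (f ^ (n + 1)) := by
  induction n with
  | zero => simpa using hf
  | succ n ih => rw [_root_.pow_succ]; exact ih.mul hf

/-- Schur's lemma on `p`-th powers, counting form. -/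
theorem frob_count [Fintype A] [DecidableEq A] (hcomm : ∀ a b : A, a * b = b * a) (p : ℕ)
    [Fact p.Prime] {T : Set A} [DecidablePred (· ∈ T)] (hT : RInv hreg T) {g : G}
    (hg : g • ω₀ = ω₀) (y : A) :
    (((Finset.univ.filter (fun t : A => t ∈ T)).filter
        (fun t => t ^ p = rAct hreg g y)).card : ZMod p) =
      (((Finset.univ.filter (fun t : A => t ∈ T)).filter (fun t => t ^ p = y)).card : ZMod p) := by
  letI : CommGroup A := { (inferInstance : Group A) with mul_comm := hcomm }
  haveI : CharP (MonoidAlgebra (ZMod p) A) p := by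
    rw [CharP.charP_iff_prime_eq_zero (Fact.out : p.Prime)]
    have h : (algebraMap (ZMod p) (MonoidAlgebra (ZMod p) A)) (p : ZMod p) = 0 := by
      rw [CharP.cast_eq_zero, map_zero]
    rw [map_natCast] at h
    exact h
  set F : Finset A := Finset.univ.filter (fun t : A => t ∈ T) with hF
  set X : MonoidAlgebra (ZMod p) A := ∑ t ∈ F, MonoidAlgebra.single t (1 : ZMod p) with hX
  have hXinv : SInv hreg X := by
    intro g' hg' a
    have hc : ∀ b : A, X.coeff b = if b ∈ F then 1 else 0 := by
      intro b
      rw [hX, MonoidAlgebra.coeff_sum, Finsupp.finsetSum_apply]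
      simp only [MonoidAlgebra.coeff_single, Finsupp.single_apply]
      rw [Finset.sum_ite_eq']
    rw [hc, hc]
    have : rAct hreg g' a ∈ F ↔ a ∈ F := by
      simp only [hF, Finset.mem_filter, Finset.mem_univ, true_and]
      exact hT.mem_iff hg' a
    simp only [this]
  obtain ⟨k, hk⟩ : ∃ k : ℕ, p = k + 1 := by
    have := (Fact.out : p.Prime).pos
    exact ⟨p - 1, by omega⟩
  have hXp : SInv hreg (X ^ p) := by
    have h1 := hXinv.pow_succ k
    rwa [← hk] at h1
  have hcoef : ∀ b : A, (X ^ p).coeff b = ((F.filter (fun t => t ^ p = b)).card : ZMod p) := by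
    intro b
    rw [hX, sum_pow_char p]
    simp only [MonoidAlgebra.single_pow, one_pow]
    rw [MonoidAlgebra.coeff_sum, Finsupp.finsetSum_apply]
    simp only [MonoidAlgebra.coeff_single, Finsupp.single_apply]
    rw [Finset.sum_boole]
  rw [← hcoef, ← hcoef]
  exact hXp g hg y

end Frob

section Step1

variable {G : Type*} [Group G] {Ω : Type*} [MulAction G Ω] {A : Subgroup G} {ω₀ : Ω}
  {hreg : Function.Bijective (fun a : A => (a : G) • ω₀)}

/-- Step 1: in a primitive group with abelian regular subgroup `A` whose `p`-torsion `P₁` has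
order `p`, every invariant set is, outside `P₁`, a union of cosets of `P₁`. -/
theorem rInv_coset_stable [Finite A] (hprim : MulAction.IsPreprimitive G Ω)
    (hcomm : ∀ a b : A, a * b = b * a) (p : ℕ) [Fact p.Prime] (P₁ : Subgroup A)
    (hP : ∀ a : A, a ∈ P₁ ↔ a ^ p = 1) (hPc : Nat.card P₁ = p) {T : Set A}
    (hT : RInv hreg T) {x : A} (hx : x ∈ T) (hxP : x ∉ P₁) {w : A} (hw : w ∈ P₁) :
    w * x ∈ T := by
  classical
  haveI : Fintype A := Fintype.ofFinite A
  have hpp : p.Prime := Fact.out
  set F : Finset A := Finset.univ.filter (fun t : A => t ∈ T) with hF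
  set κ : A → ℕ := fun y => (F.filter (fun t => t ^ p = y)).card with hκ
  -- the coset `P₁ x` as a finset
  set C : Finset A := Finset.univ.filter (fun t : A => t ^ p = x ^ p) with hC
  have hCmem : ∀ t : A, t ∈ C ↔ t * x⁻¹ ∈ P₁ := by
    intro t
    simp only [hC, Finset.mem_filter, Finset.mem_univ, true_and]
    rw [hP, (show Commute t x⁻¹ from hcomm t x⁻¹).mul_pow, inv_pow, mul_inv_eq_one]
  have hCcard : C.card = p := by
    rw [← hPc, Nat.card_eq_fintype_card, ← Finset.card_univ]
    symm
    apply Finset.card_bij (fun (u : P₁) _ => (u : A) * x)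
    · intro u _
      rw [hCmem, mul_inv_cancel_right]
      exact u.2
    · intro u _ v _ h
      exact Subtype.ext (mul_right_cancel h)
    · intro t ht
      exact ⟨⟨t * x⁻¹, (hCmem t).mp ht⟩, Finset.mem_univ _, by simp⟩
  have hsub : F.filter (fun t => t ^ p = x ^ p) ⊆ C := by
    intro t ht
    simp only [Finset.mem_filter] at ht
    simp only [hC, Finset.mem_filter, Finset.mem_univ, true_and]
    exact ht.2
  -- divisibility
  have hdvd : p ∣ κ (x ^ p) := by
    by_contra hnd
    have hne : ((κ (x ^ p) : ℕ) : ZMod p) ≠ 0 := by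
      rwa [Ne, ZMod.natCast_eq_zero_iff]
    set Y : Set A := {y : A | ((κ y : ℕ) : ZMod p) ≠ 0} with hY
    have hYinv : RInv hreg Y := by
      intro g hg y hy
      have := frob_count (hreg := hreg) hcomm p hT hg y
      simp only [hY, Set.mem_ofPred_eq, hκ] at hy ⊢
      rwa [this]
    have hcl := hYinv.closure
    have hxY : x ^ p ∈ Y := hne
    rcases rInv_subgroup_trivial hprim _ hcl with h | h
    · have : x ^ p ∈ Subgroup.closure Y := Subgroup.subset_closure hxY
      rw [h, Subgroup.mem_bot] at this
      exact hxP ((hP x).mpr this)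
    · -- `closure Y` is contained in the image of the `p`-th power map, a proper subgroup
      letI : CommGroup A := { (inferInstance : Group A) with mul_comm := hcomm }
      have hle : Subgroup.closure Y ≤ (powMonoidHom p : A →* A).range := by
        rw [Subgroup.closure_le]
        intro y hy
        have hy' : ((κ y : ℕ) : ZMod p) ≠ 0 := hy
        have hpos : 0 < κ y := by
          rcases Nat.eq_zero_or_pos (κ y) with h0 | h0
          · rw [h0] at hy'; simp at hy'
          · exact h0
        obtain ⟨t, ht⟩ := Finset.card_pos.mp hpos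
        simp only [Finset.mem_filter] at ht
        exact ⟨t, ht.2⟩
      have hsurj : Function.Surjective (powMonoidHom p : A →* A) := by
        rw [← MonoidHom.range_eq_top, eq_top_iff, ← h]
        exact hle
      have hinj := (Finite.injective_iff_surjective).mpr hsurj
      -- but `P₁` is non-trivial
      have h2 : 1 < Nat.card P₁ := by rw [hPc]; exact hpp.one_lt
      haveI : Nontrivial P₁ := (Finite.one_lt_card_iff_nontrivial).mp h2
      obtain ⟨u, hu⟩ := exists_ne (1 : P₁)
      have h3 : (u : A) ^ p = 1 := (hP u).mp u.2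
      have h4 : (u : A) = 1 := hinj (by simp [h3])
      exact hu (Subtype.ext h4)
  -- the fibre has exactly `p` elements, so it is the whole coset
  have hxmem : x ∈ F.filter (fun t => t ^ p = x ^ p) := by
    simp only [hF, Finset.mem_filter, Finset.mem_univ, true_and, and_true]
    exact hx
  have hpos : 0 < κ (x ^ p) := Finset.card_pos.mpr ⟨x, hxmem⟩
  have hle : κ (x ^ p) ≤ p := by
    have h1 := Finset.card_le_card hsub
    rw [hCcard] at h1
    exact h1
  have hcard : κ (x ^ p) = p := le_antisymm hle (Nat.le_of_dvd hpos hdvd)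
  have heq : F.filter (fun t => t ^ p = x ^ p) = C :=
    Finset.eq_of_subset_of_card_le hsub (by rw [hCcard]; exact hcard.ge)
  have hwx : w * x ∈ C := by
    rw [hCmem, mul_inv_cancel_right]
    exact hw
  rw [← heq] at hwx
  simp only [hF, Finset.mem_filter, Finset.mem_univ, true_and] at hwx
  exact hwx.1

end Step1

end Cfsg.Agent.Lib.Helper17
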