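import Cfsg.Agent.Lib.Helper17.BGroupB

/-!
# Wielandt's theorem: abelian regular subgroups with a cyclic Sylow subgroup

A primitive permutation group containing an abelian regular subgroup `A` whose `p`-torsion
has order `p` (i.e. the Sylow `p`-subgroup of `A` is cyclic and non-trivial), `A` not of order
`p`, is doubly transitive.  In particular (Schur, Burnside) a primitive group containing a
regular cyclic subgroup of composite order is doubly transitive.
-/

set_option autoImplicit false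

namespace Cfsg.Agent.Lib.Helper17

open scoped Pointwise

section Count

variable {G : Type*} [Group G] {Ω : Type*} [MulAction G Ω] {A : Subgroup G} {ω₀ : Ω}
  {hreg : Function.Bijective (fun a : A => (a : G) • ω₀)}

/-- A finite set stable under left multiplication by a subgroup of prime order `p` has
cardinality divisible by `p`. -/
theorem stable_ncard_dvd [Finite A] (p : ℕ) [Fact p.Prime] (P₁ : Subgroup A)
    (hPc : Nat.card P₁ = p) (S : Set A) (hS : ∀ w ∈ P₁, ∀ t ∈ S, w * t ∈ S) : p ∣ S.ncard := by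
  classical
  letI : MulAction P₁ S :=
    { smul := fun w t => ⟨(w : A) * t, hS w w.2 t t.2⟩
      one_smul := fun t => Subtype.ext (one_mul _)
      mul_smul := fun w w' t => Subtype.ext (mul_assoc _ _ _) }
  have hpg : IsPGroup p P₁ := IsPGroup.of_card (n := 1) (by rw [hPc, pow_one])
  have h := hpg.card_modEq_card_fixedPoints (α := S)
  have hpp : p.Prime := Fact.out
  have h2 : 1 < Nat.card P₁ := by rw [hPc]; exact hpp.one_lt
  haveI : Nontrivial P₁ := (Finite.one_lt_card_iff_nontrivial).mp h2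
  have hfix : IsEmpty (MulAction.fixedPoints P₁ S) := by
    constructor
    rintro ⟨t, ht⟩
    obtain ⟨u, hu⟩ := exists_ne (1 : P₁)
    have h3 : u • t = t := ht u
    have h4 : (u : A) * (t : A) = t := congrArg Subtype.val h3
    exact hu (Subtype.ext (mul_right_cancel (h4.trans (one_mul _).symm)))
  have h0 : Nat.card (MulAction.fixedPoints P₁ S) = 0 := Nat.card_of_isEmpty
  rw [h0, Nat.card_coe_set_eq] at h
  exact (Nat.modEq_zero_iff_dvd).mp h

variable [Finite A] (hprim : MulAction.IsPreprimitive G Ω) (hcomm : ∀ a b : A, a * b = b * a)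
  (p : ℕ) [Fact p.Prime] (P₁ : Subgroup A) (hP : ∀ a : A, a ∈ P₁ ↔ a ^ p = 1)
  (hPc : Nat.card P₁ = p)

include hprim hcomm hP hPc

/-- Step 2: every non-identity orbit meets `P₁`. -/
theorem rOrb_inter_nonempty {a : A} (ha : a ≠ 1) :
    ∃ z : A, z ∈ rOrb hreg a ∧ z ∈ P₁ := by
  by_contra hcon
  push Not at hcon
  have hT := rInv_rOrb hreg a
  have hstab : ∀ w : A, w ∈ P₁ → w ∈ MulAction.stabilizer A (rOrb hreg a) := by
    intro w hw
    have hsub : w • rOrb hreg a ⊆ rOrb hreg a := by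
      rintro _ ⟨x, hx, rfl⟩
      exact rInv_coset_stable hprim hcomm p P₁ hP hPc hT hx (hcon x hx) hw
    show w • rOrb hreg a = rOrb hreg a
    apply Set.eq_of_subset_of_ncard_le hsub _ (Set.toFinite _)
    rw [Set.ncard_smul_set]
  have hpp : p.Prime := Fact.out
  have h2 : 1 < Nat.card P₁ := by rw [hPc]; exact hpp.one_lt
  haveI : Nontrivial P₁ := (Finite.one_lt_card_iff_nontrivial).mp h2
  obtain ⟨u, hu⟩ := exists_ne (1 : P₁)
  rcases rInv_subgroup_trivial hprim _ hT.stabilizer with h | h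
  · have := hstab u u.2
    rw [h, Subgroup.mem_bot] at this
    exact hu (Subtype.ext this)
  · have h1 : a⁻¹ ∈ MulAction.stabilizer A (rOrb hreg a) := by rw [h]; trivial
    have h3 : a⁻¹ • rOrb hreg a = rOrb hreg a := h1
    have h4 : a⁻¹ • a ∈ a⁻¹ • rOrb hreg a := Set.smul_mem_smul_set (mem_rOrb_self hreg a)
    rw [h3, smul_eq_mul, inv_mul_cancel] at h4
    exact one_notMem_rOrb ha h4

/-- Step 3: every non-identity orbit leaves `P₁` (when `A ≠ P₁`). -/
theorem rOrb_not_subset {a : A} (ha : a ≠ 1) (hne : ∃ x : A, x ∉ P₁) :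
    ∃ x : A, x ∈ rOrb hreg a ∧ x ∉ P₁ := by
  by_contra hcon
  push Not at hcon
  have hT := rInv_rOrb hreg a
  rcases rInv_subgroup_trivial hprim _ hT.closure with h | h
  · have : a ∈ Subgroup.closure (rOrb hreg a) := Subgroup.subset_closure (mem_rOrb_self hreg a)
    rw [h, Subgroup.mem_bot] at this
    exact ha this
  · obtain ⟨x, hx⟩ := hne
    have hle : Subgroup.closure (rOrb hreg a) ≤ P₁ := by
      rw [Subgroup.closure_le]
      exact fun y hy => hcon y hy
    apply hx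
    apply hle
    rw [h]
    trivial

/-- Step 4: the counting argument: every non-identity orbit contains at least half of `P₁`. -/
theorem rOrb_inter_large {a : A} (ha : a ≠ 1) (hne : ∃ x : A, x ∉ P₁) :
    p ≤ 2 * (rOrb hreg a ∩ (P₁ : Set A)).ncard := by
  classical
  set T : Set A := rOrb hreg a with hTdef
  have hT : RInv hreg T := rInv_rOrb hreg a
  have hst : ∀ {x w : A}, x ∈ T → x ∉ P₁ → w ∈ P₁ → w * x ∈ T := fun hx hxP hw =>
    rInv_coset_stable hprim hcomm p P₁ hP hPc hT hx hxP hw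
  obtain ⟨z, hzT, hzP⟩ := rOrb_inter_nonempty hprim hcomm p P₁ hP hPc (hreg := hreg) ha
  obtain ⟨x, hxT, hxP⟩ := rOrb_not_subset hprim hcomm p P₁ hP hPc (hreg := hreg) ha hne
  -- `x = rAct g z` for some `g` fixing `ω₀`
  have hxz : x ∈ rOrb hreg z := by
    rw [rOrb_eq_of_mem hzT]
    exact hxT
  obtain ⟨g, hg, hgx⟩ := hxz
  have hcount := hT.ncard_mul_inv hg z
  rw [hgx] at hcount
  set s : ℕ := (T ∩ (P₁ : Set A)).ncard with hs
  have hs1 : 1 ≤ s := by
    rw [hs, Nat.succ_le_iff, Set.ncard_pos (Set.toFinite _)]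
    exact ⟨z, hzT, hzP⟩
  -- facts on `P₁`
  have hnotP : ∀ {u w : A}, u ∉ P₁ → w ∈ P₁ → w * u ∉ P₁ := by
    intro u w hu hw h
    apply hu
    have := P₁.mul_mem (P₁.inv_mem hw) h
    rwa [inv_mul_cancel_left] at this
  -- the count at `z`
  have hz : ∃ N m : ℕ, N ≤ s ∧ {u : A | u ∈ T ∧ u⁻¹ * z ∈ T}.ncard = N + p * m := by
    set U1 : Set A := {u : A | (u ∈ T ∧ u⁻¹ * z ∈ T) ∧ u ∈ P₁} with hU1
    set U2 : Set A := {u : A | (u ∈ T ∧ u⁻¹ * z ∈ T) ∧ u ∉ P₁} with hU2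
    have hunion : {u : A | u ∈ T ∧ u⁻¹ * z ∈ T} = U1 ∪ U2 := by
      ext u
      simp only [hU1, hU2, Set.mem_union, Set.mem_ofPred_eq]
      tauto
    have hdisj : Disjoint U1 U2 := by
      rw [Set.disjoint_left]
      rintro u ⟨_, h1⟩ ⟨_, h2⟩
      exact h2 h1
    have hU1le : U1.ncard ≤ s := by
      apply Set.ncard_le_ncard _ (Set.toFinite _)
      rintro u ⟨⟨h1, _⟩, h2⟩
      exact ⟨h1, h2⟩
    have hU2 : p ∣ U2.ncard := by
      apply stable_ncard_dvd p P₁ hPc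
      rintro w hw u ⟨⟨h1, h2⟩, h3⟩
      refine ⟨⟨hst h1 h3 hw, ?_⟩, hnotP h3 hw⟩
      have h4 : u⁻¹ * z ∉ P₁ := by
        intro h
        apply h3
        have := P₁.mul_mem hzP (P₁.inv_mem h)
        rw [mul_inv_rev, inv_inv, mul_inv_cancel_left] at this
        exact this
      have h5 := hst h2 h4 (P₁.inv_mem hw)
      have h6 : (w * u)⁻¹ * z = w⁻¹ * (u⁻¹ * z) := by
        rw [mul_inv_rev, hcomm u⁻¹ w⁻¹, mul_assoc]
      rw [h6]
      exact h5
    obtain ⟨m, hm⟩ := hU2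
    refine ⟨U1.ncard, m, hU1le, ?_⟩
    rw [hunion, Set.ncard_union_eq hdisj (Set.toFinite _) (Set.toFinite _), hm]
  -- the count at `x`
  have hx : ∃ m : ℕ, {u : A | u ∈ T ∧ u⁻¹ * x ∈ T}.ncard = 2 * s + p * m := by
    set U1 : Set A := {u : A | (u ∈ T ∧ u⁻¹ * x ∈ T) ∧ u ∈ P₁} with hU1
    set U2 : Set A := {u : A | (u ∈ T ∧ u⁻¹ * x ∈ T) ∧ u ∉ P₁ ∧ u⁻¹ * x ∈ P₁} with hU2
    set U3 : Set A := {u : A | (u ∈ T ∧ u⁻¹ * x ∈ T) ∧ u ∉ P₁ ∧ u⁻¹ * x ∉ P₁} with hU3
    have hunion : {u : A | u ∈ T ∧ u⁻¹ * x ∈ T} = (U1 ∪ U2) ∪ U3 := by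
      ext u
      simp only [hU1, hU2, hU3, Set.mem_union, Set.mem_ofPred_eq]
      tauto
    have hdisj12 : Disjoint U1 U2 := by
      rw [Set.disjoint_left]
      rintro u ⟨_, h1⟩ ⟨_, h2, _⟩
      exact h2 h1
    have hdisj3 : Disjoint (U1 ∪ U2) U3 := by
      rw [Set.disjoint_left]
      rintro u (⟨_, h1⟩ | ⟨_, _, h1⟩) ⟨_, h2, h3⟩
      · exact h2 h1
      · exact h3 h1
    have hU1eq : U1 = T ∩ (P₁ : Set A) := by
      ext u
      constructor
      · rintro ⟨⟨h1, _⟩, h2⟩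
        exact ⟨h1, h2⟩
      · rintro ⟨h1, h2⟩
        exact ⟨⟨h1, hst hxT hxP (P₁.inv_mem h2)⟩, h2⟩
    have hU2eq : U2 = (fun w : A => x * w⁻¹) '' (T ∩ (P₁ : Set A)) := by
      ext u
      constructor
      · rintro ⟨⟨_, h2⟩, _, h4⟩
        refine ⟨u⁻¹ * x, ⟨h2, h4⟩, ?_⟩
        show x * (u⁻¹ * x)⁻¹ = u
        rw [mul_inv_rev, inv_inv, mul_inv_cancel_left]
      · rintro ⟨w, ⟨h1, h2⟩, rfl⟩
        have h3 : x * w⁻¹ ∈ T := by
          rw [hcomm x w⁻¹]
          exact hst hxT hxP (P₁.inv_mem h2)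
        have h4 : x * w⁻¹ ∉ P₁ := by
          rw [hcomm x w⁻¹]
          exact hnotP hxP (P₁.inv_mem h2)
        have h5 : (x * w⁻¹)⁻¹ * x = w := by
          rw [mul_inv_rev, inv_inv, hcomm w x⁻¹, mul_assoc, hcomm w x, ← mul_assoc,
            inv_mul_cancel, one_mul]
        refine ⟨⟨h3, ?_⟩, h4, ?_⟩
        · rw [h5]; exact h1
        · rw [h5]; exact h2
    have hU2card : U2.ncard = s := by
      rw [hU2eq, Set.ncard_image_of_injective]
      intro w w' h
      have h1 : x * w⁻¹ = x * w'⁻¹ := h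
      exact inv_injective (mul_left_cancel h1)
    have hU3 : p ∣ U3.ncard := by
      apply stable_ncard_dvd p P₁ hPc
      rintro w hw u ⟨⟨h1, h2⟩, h3, h4⟩
      have h6 : (w * u)⁻¹ * x = w⁻¹ * (u⁻¹ * x) := by
        rw [mul_inv_rev, hcomm u⁻¹ w⁻¹, mul_assoc]
      refine ⟨⟨hst h1 h3 hw, ?_⟩, hnotP h3 hw, ?_⟩
      · rw [h6]
        exact hst h2 h4 (P₁.inv_mem hw)
      · rw [h6]
        exact hnotP h4 (P₁.inv_mem hw)
    obtain ⟨m, hm⟩ := hU3
    refine ⟨m, ?_⟩
    rw [hunion, Set.ncard_union_eq hdisj3 (Set.toFinite _) (Set.toFinite _),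
      Set.ncard_union_eq hdisj12 (Set.toFinite _) (Set.toFinite _), hU2card, hU1eq, hm]
    ring
  obtain ⟨N, m, hN, hcz⟩ := hz
  obtain ⟨m', hcx⟩ := hx
  rw [hcz, hcx] at hcount
  -- `2 s + p m' = N + p m`, `N ≤ s`, `1 ≤ s`
  by_contra hlt
  push Not at hlt
  have h1 : (2 * s + p * m') % p = (N + p * m) % p := by rw [hcount]
  rw [Nat.add_mul_mod_self_left, Nat.add_mul_mod_self_left, Nat.mod_eq_of_lt hlt,
    Nat.mod_eq_of_lt (by omega)] at h1
  omega

/-- The stabilizer of the base point is transitive on the non-identity elements of `A`. -/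
theorem rOrb_eq_of_ne_one {a b : A} (ha : a ≠ 1) (hb : b ≠ 1) (hne : ∃ x : A, x ∉ P₁) :
    b ∈ rOrb hreg a := by
  classical
  by_contra hcon
  have h1 := rOrb_inter_large hprim hcomm p P₁ hP hPc (hreg := hreg) ha hne
  have h2 := rOrb_inter_large hprim hcomm p P₁ hP hPc (hreg := hreg) hb hne
  have hdisj : Disjoint (rOrb hreg a ∩ (P₁ : Set A)) (rOrb hreg b ∩ (P₁ : Set A)) := by
    rw [Set.disjoint_left]
    rintro c ⟨hc1, _⟩ ⟨hc2, _⟩
    apply hcon
    rw [rOrb_eq_of_inter hc1 hc2]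
    exact mem_rOrb_self hreg b
  have hsub : (rOrb hreg a ∩ (P₁ : Set A)) ∪ (rOrb hreg b ∩ (P₁ : Set A)) ⊆
      (P₁ : Set A) \ {1} := by
    rintro c (⟨hc1, hc2⟩ | ⟨hc1, hc2⟩)
    · refine ⟨hc2, ?_⟩
      rintro rfl
      exact one_notMem_rOrb ha hc1
    · refine ⟨hc2, ?_⟩
      rintro rfl
      exact one_notMem_rOrb hb hc1
  have h3 := Set.ncard_le_ncard hsub (Set.toFinite _)
  rw [Set.ncard_union_eq hdisj (Set.toFinite _) (Set.toFinite _),
    Set.ncard_sdiff_singleton_of_mem (P₁.one_mem)] at h3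
  have h4 : (P₁ : Set A).ncard = p := by
    rw [← Nat.card_coe_set_eq]
    exact hPc
  rw [h4] at h3
  have hpp : p.Prime := Fact.out
  have := hpp.pos
  omega

end Count

section Main

variable {G : Type*} [Group G] {Ω : Type*} [MulAction G Ω]

/-- **Wielandt** (Schur, Burnside): a primitive permutation group containing an abelian regular
subgroup `A` whose `p`-torsion `P₁` has order `p`, with `A ≠ P₁`, is doubly transitive. -/
theorem two_transitive_of_regular_abelian [Finite Ω] (hprim : MulAction.IsPreprimitive G Ω)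
    (A : Subgroup G) (ω₀ : Ω) (hreg : Function.Bijective (fun a : A => (a : G) • ω₀))
    (hcomm : ∀ a b : A, a * b = b * a) (p : ℕ) [Fact p.Prime] (P₁ : Subgroup A)
    (hP : ∀ a : A, a ∈ P₁ ↔ a ^ p = 1) (hPc : Nat.card P₁ = p) (hne : ∃ x : A, x ∉ P₁) :
    MulAction.IsMultiplyPretransitive G Ω 2 := by
  haveI : Finite A := Finite.of_injective _ hreg.1
  haveI : MulAction.IsPretransitive G Ω := hprim.toIsPretransitive
  have key : ∀ b b' : Ω, b ≠ ω₀ → b' ≠ ω₀ → ∃ s : G, s • ω₀ = ω₀ ∧ s • b = b' := by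
    intro b b' hb hb'
    obtain ⟨a, rfl⟩ := hreg.2 b
    obtain ⟨a', rfl⟩ := hreg.2 b'
    have ha : a ≠ 1 := by
      rintro rfl
      exact hb (by simp)
    have ha' : a' ≠ 1 := by
      rintro rfl
      exact hb' (by simp)
    obtain ⟨g, hg, hga⟩ := rOrb_eq_of_ne_one hprim hcomm p P₁ hP hPc (hreg := hreg) ha ha' hne
    refine ⟨g, hg, ?_⟩
    show g • (a : G) • ω₀ = (a' : G) • ω₀
    rw [← rAct_spec hreg g a, hga]
  rw [MulAction.is_two_pretransitive_iff]
  intro a b c d hab hcd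
  obtain ⟨g1, hg1⟩ := MulAction.exists_smul_eq G a ω₀
  obtain ⟨g2, hg2⟩ := MulAction.exists_smul_eq G c ω₀
  have hb : g1 • b ≠ ω₀ := fun hh => hab (smul_left_cancel g1 (hg1.trans hh.symm))
  have hd : g2 • d ≠ ω₀ := fun hh => hcd (smul_left_cancel g2 (hg2.trans hh.symm))
  obtain ⟨s, hs1, hs2⟩ := key (g1 • b) (g2 • d) hb hd
  refine ⟨g2⁻¹ * s * g1, ?_, ?_⟩
  · rw [mul_smul, mul_smul, hg1, hs1, inv_smul_eq_iff, hg2]
  · rw [mul_smul, mul_smul, hs2, inv_smul_smul]

end Main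

end Cfsg.Agent.Lib.Helper17
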