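import Cfsg.Agent.Lib.Helper36.E8Facts

/-!
# S5751 piece UB3 (helper17, for helper36): identity diagonal blocks
-/

set_option autoImplicit false
set_option maxRecDepth 100000

namespace Cfsg.Agent.Lib.Helper36.E8C

open Cfsg.Lie Cfsg.Agent.Lib.Helper24

/-- the inverse of the Cartan matrix of `E₈` modulo 2 -/
def UB3_dTab : List (List ℕ) :=
  [[0, 1, 1, 0, 0, 0, 0, 0], [1, 0, 0, 1, 0, 1, 0, 1], [1, 0, 0, 0, 0, 0, 0, 0],
   [0, 1, 0, 0, 0, 0, 0, 0], [0, 0, 0, 0, 0, 1, 0, 1], [0, 1, 0, 0, 1, 0, 0, 0],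
   [0, 0, 0, 0, 0, 0, 0, 1], [0, 1, 0, 0, 1, 0, 1, 0]]

/-- entries of the inverse Cartan matrix modulo 2 -/
def UB3_D (l i : ℕ) : K2 := (((UB3_dTab.getD l []).getD i 0 : ℕ) : K2)

/-- entries of the Cartan matrix modulo 2 -/
def UB3_C (k i : ℕ) : K2 := ((chevE8.cartan k (chevE8.simple i) : ℤ) : K2)

theorem UB3_DC : ∀ l < 8, ∀ k < 8,
    ((List.range 8).map fun i => UB3_D l i * UB3_C k i).sum = if l = k then 1 else 0 := by
  decide +kernel

theorem UB3_DC' (l k : Fin chevE8.rank) :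
    ∑ i ∈ Finset.range 8, UB3_D l.val i * UB3_C k.val i = if l = k then 1 else 0 := by
  have h := UB3_DC l.val l.isLt k.val k.isLt
  have e : (if l = k then (1 : K2) else 0) = if l.val = k.val then 1 else 0 := by
    by_cases hlk : l = k
    · rw [if_pos hlk, if_pos (congrArg Fin.val hlk)]
    · rw [if_neg hlk, if_neg (fun h => hlk (Fin.ext h))]
  rw [e, ← h]
  have hr : List.range 8 = [0, 1, 2, 3, 4, 5, 6, 7] := by decide
  rw [hr]
  simp [Finset.sum_range_succ, add_assoc]

/-- the entry `(e_p, h_j)` of `x_p(1) X x_p(1)` (generic datum) -/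
theorem UB3_entry {F : Type*} [Field F] (D : ChevalleyDatum) (X : Matrix D.Idx D.Idx F)
    (p : ℕ) (hp : p < D.nroots) (j : Fin D.rank)
    (hcolj : ∀ s : Fin D.nroots, X (Sum.inr s) (Sum.inl j) = 0)
    (hcolp : ∀ a, X a (Sum.inr ⟨p, hp⟩) = if a = Sum.inr ⟨p, hp⟩ then 1 else 0) :
    (D.x F p 1 * X * D.x F p 1) (Sum.inr ⟨p, hp⟩) (Sum.inl j)
      = ∑ k : Fin D.rank, (-((D.cartan k.val p : ℤ) : F)) * X (Sum.inl k) (Sum.inl j)
        + (-((D.cartan j.val p : ℤ) : F)) := by
  classical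
  set x : Matrix D.Idx D.Idx F := D.x F p 1 with hx
  have hxcol : ∀ (k : Fin D.rank) (row : D.Idx),
      x row (Sum.inl k) = hv F D k.val row
        - (((D.cartan k.val p : ℤ) : F) * 1) * rv F D p row := by
    intro k row
    have h1 := congrFun (x_mulVec_hv (F := F) D p hp (1 : F) k.val k.isLt) row
    rw [mulVec_hv D _ k.val k.isLt] at h1
    rw [hx]
    exact h1
  have hxpp : x (Sum.inr ⟨p, hp⟩) (Sum.inr ⟨p, hp⟩) = 1 := by
    have h1 := congrFun (x_mulVec_rv_self (F := F) D p hp (1 : F)) (Sum.inr ⟨p, hp⟩)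
    rw [mulVec_rv D _ p hp] at h1
    rw [hx, h1]
    simp [rv]
  have hw : ∀ a, (X * x) a (Sum.inl j) = X a (Sum.inl j)
      - (((D.cartan j.val p : ℤ) : F) * 1) * X a (Sum.inr ⟨p, hp⟩) := by
    intro a
    rw [Matrix.mul_apply]
    have h1 : ∀ b, X a b * x b (Sum.inl j) = X a b * hv F D j.val b
        - (((D.cartan j.val p : ℤ) : F) * 1) * (X a b * rv F D p b) := by
      intro b; rw [hxcol j b]; ring
    rw [Finset.sum_congr rfl (fun b _ => h1 b), Finset.sum_sub_distrib, ← Finset.mul_sum]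
    have h2 : ∑ b, X a b * hv F D j.val b = X a (Sum.inl j) := by
      have h := mulVec_hv D X j.val j.isLt a
      rw [← h]; rfl
    have h3 : ∑ b, X a b * rv F D p b = X a (Sum.inr ⟨p, hp⟩) := by
      have h := mulVec_rv D X p hp a
      rw [← h]; rfl
    rw [h2, h3]
  rw [Matrix.mul_assoc, Matrix.mul_apply, Fintype.sum_sum_type]
  congr 1
  · refine Finset.sum_congr rfl (fun k _ => ?_)
    rw [hw, hcolp, if_neg (by simp), mul_zero, sub_zero, hxcol k]
    simp [hv, rv]
  · rw [Finset.sum_eq_single (⟨p, hp⟩ : Fin D.nroots)]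
    · rw [hw, hcolp, if_pos rfl, hxpp, hcolj]
      simp
    · intro s _ hs
      rw [hw, hcolp, if_neg (by simpa using hs), hcolj]
      simp
    · intro h; exact absurd (Finset.mem_univ _) h

/-- solving the Cartan equations with a left inverse (generic) -/
theorem UB3_solve {n : ℕ} {F : Type*} [Field F] (C Dm : ℕ → ℕ → F) (Xb : Fin n → Fin n → F)
    (hDC : ∀ l k : Fin n, ∑ i ∈ Finset.range 8, Dm l.val i * C k.val i = if l = k then 1 else 0)
    (E : ∀ i < 8, ∀ j : Fin n, ∑ k : Fin n, C k.val i * Xb k j = C j.val i) :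
    ∀ l j : Fin n, Xb l j = if l = j then 1 else 0 := by
  intro l j
  calc Xb l j
      = ∑ k : Fin n, (if l = k then (1 : F) else 0) * Xb k j := by simp
    _ = ∑ k : Fin n, (∑ i ∈ Finset.range 8, Dm l.val i * C k.val i) * Xb k j := by
        refine Finset.sum_congr rfl (fun k _ => ?_)
        rw [hDC l k]
    _ = ∑ i ∈ Finset.range 8, Dm l.val i * ∑ k : Fin n, C k.val i * Xb k j := by
        simp_rw [Finset.sum_mul, Finset.mul_sum, mul_assoc]
        exact Finset.sum_comm
    _ = ∑ i ∈ Finset.range 8, Dm l.val i * C j.val i := by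
        refine Finset.sum_congr rfl (fun i hi => ?_)
        rw [E i (Finset.mem_range.1 hi) j]
    _ = if l = j then 1 else 0 := hDC l j

/-- step (2): the diagonal entries at the roots -/
theorem UB3_diag (g : E8G)
    (hz : ∀ a b, a ≠ b → ¬ LO a b →
      ((g : GL chevE8.Idx K2) : Matrix chevE8.Idx chevE8.Idx K2) a b = 0)
    (r : Fin chevE8.nroots) :
    ((g : GL chevE8.Idx K2) : Matrix chevE8.Idx chevE8.Idx K2) (Sum.inr r) (Sum.inr r) = 1 := by
  classical
  have hXXi : ((g : GL chevE8.Idx K2) : Matrix chevE8.Idx chevE8.Idx K2) *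
      (((g : GL chevE8.Idx K2)⁻¹ : GL chevE8.Idx K2) : Matrix chevE8.Idx chevE8.Idx K2) = 1 :=
    Units.mul_inv (g : GL chevE8.Idx K2)
  have hXiX : (((g : GL chevE8.Idx K2)⁻¹ : GL chevE8.Idx K2) : Matrix chevE8.Idx chevE8.Idx K2) *
      ((g : GL chevE8.Idx K2) : Matrix chevE8.Idx chevE8.Idx K2) = 1 :=
    Units.inv_mul (g : GL chevE8.Idx K2)
  have hK2 : ∀ t : K2, t ≠ 0 → t = 1 := by decide
  apply hK2
  intro h0
  by_cases hl : lev r.val < 4
  · have hrow : ∀ b, ((g : GL chevE8.Idx K2) : Matrix chevE8.Idx chevE8.Idx K2) (Sum.inr r) b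
        = 0 := by
      intro b
      by_cases hb : b = Sum.inr r
      · rw [hb]; exact h0
      · apply hz _ _ (fun e => hb e.symm)
        rcases b with k | s
        · exact fun h => h
        · intro h
          have h' : 4 ≤ lev r.val ∧ lev s.val ≤ -4 := h
          omega
    have h1 := congrFun (congrFun hXXi (Sum.inr r)) (Sum.inr r)
    rw [Matrix.mul_apply, Matrix.one_apply_eq,
      Finset.sum_eq_zero (fun b _ => by rw [hrow b, zero_mul])] at h1
    exact one_ne_zero h1.symm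
  · have hcol : ∀ a, ((g : GL chevE8.Idx K2) : Matrix chevE8.Idx chevE8.Idx K2) a (Sum.inr r)
        = 0 := by
      intro a
      by_cases ha : a = Sum.inr r
      · rw [ha]; exact h0
      · apply hz _ _ ha
        rcases a with k | s
        · exact fun h => h
        · intro h
          have h' : 4 ≤ lev s.val ∧ lev r.val ≤ -4 := h
          omega
    have h1 := congrFun (congrFun hXiX (Sum.inr r)) (Sum.inr r)
    rw [Matrix.mul_apply, Matrix.one_apply_eq,
      Finset.sum_eq_zero (fun b _ => by rw [hcol b, mul_zero])] at h1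
    exact one_ne_zero h1.symm

/-- step (3): the Cartan equations -/
theorem UB3_E (g : E8G)
    (hz : ∀ a b, a ≠ b → ¬ LO a b →
      ((g : GL chevE8.Idx K2) : Matrix chevE8.Idx chevE8.Idx K2) a b = 0)
    (hz' : ∀ i < 8, ∀ a b, a ≠ b → ¬ LO a b →
      (((xe (chevE8.simple i) * g * (xe (chevE8.simple i))⁻¹ : E8G) : GL chevE8.Idx K2) :
        Matrix chevE8.Idx chevE8.Idx K2) a b = 0)
    (i : ℕ) (hi : i < 8) (j : Fin chevE8.rank) :
    ∑ k : Fin chevE8.rank, UB3_C k.val i *
        ((g : GL chevE8.Idx K2) : Matrix chevE8.Idx chevE8.Idx K2) (Sum.inl k) (Sum.inl j)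
      = UB3_C j.val i := by
  classical
  have hp : chevE8.simple i < chevE8.nroots := (simple_pos i hi).1
  have hlevp : -4 < lev (chevE8.simple i) := by
    rw [simple_lev i hi]; split_ifs <;> norm_num
  have hY : (((xe (chevE8.simple i) * g * (xe (chevE8.simple i))⁻¹ : E8G) : GL chevE8.Idx K2) :
      Matrix chevE8.Idx chevE8.Idx K2)
      = chevE8.x K2 (chevE8.simple i) 1 *
          ((g : GL chevE8.Idx K2) : Matrix chevE8.Idx chevE8.Idx K2) *
          chevE8.x K2 (chevE8.simple i) 1 := by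
    have h1 : (((xe (chevE8.simple i))⁻¹ : E8G) : GL chevE8.Idx K2)
        = (xGL chevE8 hE8' (chevE8.simple i) 1)⁻¹ := rfl
    rw [Subgroup.coe_mul, Subgroup.coe_mul, Units.val_mul, Units.val_mul, xe_val, h1,
      xGL_inv_val]
    have h2 : (-1 : K2) = 1 := by decide
    rw [h2]
  have hY0 : (chevE8.x K2 (chevE8.simple i) 1 *
      ((g : GL chevE8.Idx K2) : Matrix chevE8.Idx chevE8.Idx K2) *
      chevE8.x K2 (chevE8.simple i) 1) (Sum.inr ⟨chevE8.simple i, hp⟩) (Sum.inl j) = 0 := by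
    rw [← hY]
    exact hz' i hi _ _ Sum.inr_ne_inl (fun h => h)
  have hcolj : ∀ s : Fin chevE8.nroots,
      ((g : GL chevE8.Idx K2) : Matrix chevE8.Idx chevE8.Idx K2) (Sum.inr s) (Sum.inl j) = 0 :=
    fun s => hz _ _ Sum.inr_ne_inl (fun h => h)
  have hcolp : ∀ a, ((g : GL chevE8.Idx K2) : Matrix chevE8.Idx chevE8.Idx K2) a
      (Sum.inr ⟨chevE8.simple i, hp⟩) = if a = Sum.inr ⟨chevE8.simple i, hp⟩ then 1 else 0 := by
    intro a
    by_cases ha : a = Sum.inr ⟨chevE8.simple i, hp⟩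
    · rw [if_pos ha, ha]; exact UB3_diag g hz _
    · rw [if_neg ha]
      apply hz _ _ ha
      rcases a with k | s
      · exact fun h => h
      · intro h
        have h' : 4 ≤ lev s.val ∧ lev (chevE8.simple i) ≤ -4 := h
        omega
  have hsum := UB3_entry (F := K2) chevE8
    ((g : GL chevE8.Idx K2) : Matrix chevE8.Idx chevE8.Idx K2) (chevE8.simple i) hp j hcolj hcolp
  rw [hY0] at hsum
  have h4 : ∑ k : Fin chevE8.rank, (-(((chevE8.cartan k.val (chevE8.simple i) : ℤ) : K2))) *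
        ((g : GL chevE8.Idx K2) : Matrix chevE8.Idx chevE8.Idx K2) (Sum.inl k) (Sum.inl j)
      = ∑ k : Fin chevE8.rank, UB3_C k.val i *
        ((g : GL chevE8.Idx K2) : Matrix chevE8.Idx chevE8.Idx K2) (Sum.inl k) (Sum.inl j) := by
    refine Finset.sum_congr rfl (fun k _ => ?_)
    rw [CharTwo.neg_eq]
    rfl
  rw [h4, CharTwo.neg_eq] at hsum
  exact (CharTwo.add_eq_zero.1 hsum.symm)

/-- the diagonal blocks of an element with the zero pattern, all of whose conjugates by the
fundamental root elements also have the zero pattern, are identity matrices -/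
theorem diag_blocks (g : E8G)
    (hz : ∀ a b, a ≠ b → ¬ LO a b →
      ((g : GL chevE8.Idx K2) : Matrix chevE8.Idx chevE8.Idx K2) a b = 0)
    (hz' : ∀ i < 8, ∀ a b, a ≠ b → ¬ LO a b →
      (((xe (chevE8.simple i) * g * (xe (chevE8.simple i))⁻¹ : E8G) : GL chevE8.Idx K2) :
        Matrix chevE8.Idx chevE8.Idx K2) a b = 0) :
    ∀ a b, lv c0 a = lv c0 b →
      ((g : GL chevE8.Idx K2) : Matrix chevE8.Idx chevE8.Idx K2) a b = if a = b then 1 else 0 := by
  classical
  have hfin := UB3_solve (n := chevE8.rank) (F := K2) UB3_C UB3_D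
    (fun k j => ((g : GL chevE8.Idx K2) : Matrix chevE8.Idx chevE8.Idx K2) (Sum.inl k) (Sum.inl j))
    UB3_DC' (fun i hi j => UB3_E g hz hz' i hi j)
  intro a b hab
  rcases a with k | r <;> rcases b with j | s
  · have h1 := hfin k j
    by_cases hkj : k = j
    · rw [if_pos hkj] at h1
      rw [if_pos (congrArg Sum.inl hkj)]
      exact h1
    · rw [if_neg hkj] at h1
      rw [if_neg (fun h => hkj (Sum.inl.inj h))]
      exact h1
  · rw [if_neg Sum.inl_ne_inr]
    exact hz _ _ Sum.inl_ne_inr (fun h => h)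
  · rw [if_neg Sum.inr_ne_inl]
    exact hz _ _ Sum.inr_ne_inl (fun h => h)
  · by_cases hrs : r = s
    · subst hrs
      rw [if_pos rfl]
      exact UB3_diag g hz r
    · rw [if_neg (fun h => hrs (Sum.inr.inj h))]
      apply hz _ _ (fun h => hrs (Sum.inr.inj h))
      intro h
      have h' : 4 ≤ lev r.val ∧ lev s.val ≤ -4 := h
      have hab' : lev r.val = lev s.val := hab
      omega

end Cfsg.Agent.Lib.Helper36.E8C
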