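import Mathlib
import Cfsg.Agent.Lib.Helper22.HPDefs
import Cfsg.Agent.Lib.Helper83.IrrBasic
import Cfsg.Agent.Lib.Helper83.Central
import Cfsg.Agent.Lib.Helper83.Twist
import Cfsg.Agent.Lib.Helper4.CharClosure

/-!
# S4504 (project HP of helper22), auxiliary piece for HP-RECOG

`hp_pprime_central`: under `HP`, every normal subgroup of order prime to `p` is central.
(Given the statement of HP-IRR as hypothesis `hirr` and two of the ETA facts.)
-/

set_option autoImplicit false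

namespace Cfsg.Agent.Lib.Helper17.HPT

open Cfsg Cfsg.Agent.Lib.Helper22.HPD
open scoped ComplexConjugate

universe u

theorem npc_sum_fiber {α β : Type*} [Fintype α] [Fintype β] [DecidableEq β] (Θ : α → β)
    (f : β → ℝ) (hf : ∀ b, 0 ≤ f b) (c : ℕ)
    (hc : ∀ b, (Finset.univ.filter (fun a => Θ a = b)).card ≤ c) :
    ∑ a, f (Θ a) ≤ c * ∑ b, f b := by
  rw [← Finset.sum_fiberwise Finset.univ Θ (fun a => f (Θ a)), Finset.mul_sum]
  refine Finset.sum_le_sum fun b _ => ?_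
  have h1 : ∑ a ∈ Finset.univ.filter (fun a => Θ a = b), f (Θ a) =
      ((Finset.univ.filter (fun a => Θ a = b)).card : ℝ) * f b := by
    rw [Finset.sum_congr rfl (fun a ha => by rw [(Finset.mem_filter.mp ha).2] :
      ∀ a ∈ Finset.univ.filter (fun a => Θ a = b), f (Θ a) = f b)]
    rw [Finset.sum_const, nsmul_eq_mul]
  rw [h1]
  exact mul_le_mul_of_nonneg_right (by exact_mod_cast hc b) (hf b)

section grp

variable {G : Type u} [Group G]

/-- an element of `V` of order dividing `p` is trivial when `p ∤ |V|` -/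
theorem npc_eq_one (p : ℕ) [Fact p.Prime] [Finite G] (V : Subgroup G)
    (hpV : ¬ p ∣ Nat.card V) (x : G) (hx : x ∈ V) (hxp : x ^ p = 1) : x = 1 := by
  have hp : p.Prime := Fact.out
  have h1 : orderOf x ∣ p := orderOf_dvd_of_pow_eq_one hxp
  have h2 : orderOf x ∣ Nat.card V := by
    have := orderOf_dvd_natCard (⟨x, hx⟩ : V)
    rwa [Subgroup.orderOf_mk] at this
  have hcop : Nat.gcd p (Nat.card V) = 1 := (Nat.Prime.coprime_iff_not_dvd hp).mpr hpV
  have h3 : orderOf x ∣ 1 := hcop ▸ Nat.dvd_gcd h1 h2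
  exact orderOf_eq_one_iff.mp (Nat.dvd_one.mp h3)

theorem npc_zpow_inj (p : ℕ) [Fact p.Prime] (z : G) (hz : orderOf z = p) (t t' : ZMod p)
    (h : z ^ t.val = z ^ t'.val) : t = t' := by
  have h1 : t.val ≡ t'.val [MOD p] := by
    have h0 := pow_eq_pow_iff_modEq.mp h
    rwa [hz] at h0
  exact ZMod.val_injective p (Nat.ModEq.eq_of_lt_of_lt h1 (ZMod.val_lt t) (ZMod.val_lt t'))

theorem npc_not_center (p : ℕ) [Fact p.Prime] (z : G) (hz : orderOf z = p)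
    (hnn : ∀ H : Subgroup G, H.Normal → Nat.card H ≠ p) : z ∉ Subgroup.center G := by
  intro hzc
  refine hnn (Subgroup.zpowers z) ⟨?_⟩ (by rw [Nat.card_zpowers, hz])
  intro n hn g
  obtain ⟨k, rfl⟩ := Subgroup.mem_zpowers_iff.mp hn
  have h1 : z ^ k ∈ Subgroup.center G := Subgroup.zpow_mem _ hzc k
  have h2 : g * z ^ k * g⁻¹ = z ^ k := by
    rw [(Subgroup.mem_center_iff.mp h1 g)]; group
  rw [h2]; exact hn

/-- an element of `V` commuting with `z` is central -/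
theorem npc_cent [Finite G] (p : ℕ) [Fact p.Prime] (z : G) (ζ : ℂ) (χ : G → ℂ)
    (hHP : HP p ζ z χ) (hzc : z ∉ Subgroup.center G) (V : Subgroup G)
    (hpV : ¬ p ∣ Nat.card V) (v : G) (hv : v ∈ V) (hc : v * z = z * v) :
    v ∈ Subgroup.center G := by
  have hp : p.Prime := Fact.out
  obtain ⟨t, u, hu, hvu⟩ := hHP.hC v hc
  by_cases ht : t = 0
  · rw [ht, ZMod.val_zero, pow_zero, one_mul] at hvu
    rw [hvu]; exact hu
  · exfalso
    apply hzc
    set m := Nat.card V with hm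
    have h1 : v ^ m = 1 := by
      have h := congrArg Subtype.val (pow_card_eq_one' (G := V) (x := ⟨v, hv⟩))
      rw [Subgroup.coe_pow, Subgroup.coe_one] at h
      exact h
    have hcomm : Commute (z ^ t.val) u := Subgroup.mem_center_iff.mp hu (z ^ t.val)
    have h2 : (z ^ t.val) ^ m * u ^ m = 1 := by
      rw [← hcomm.mul_pow, ← hvu, h1]
    have h3 : z ^ (t.val * m) ∈ Subgroup.center G := by
      have : z ^ (t.val * m) = (u ^ m)⁻¹ := by
        rw [pow_mul]; exact eq_inv_of_mul_eq_one_left h2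
      rw [this]; exact Subgroup.inv_mem _ (Subgroup.pow_mem _ hu m)
    have hcop : (t.val * m).Coprime (orderOf z) := by
      rw [hHP.hz]
      apply Nat.Coprime.symm
      rw [Nat.Prime.coprime_iff_not_dvd hp]
      intro hdvd
      rcases (Nat.Prime.dvd_mul hp).mp hdvd with h | h
      · have h4 := Nat.le_of_dvd (Nat.pos_of_ne_zero (fun h0 => ht ((ZMod.val_eq_zero t).mp h0))) h
        exact absurd (ZMod.val_lt t) (by omega)
      · exact hpV h
    obtain ⟨a, ha⟩ := exists_pow_eq_self_of_coprime hcop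
    rw [← ha]; exact Subgroup.pow_mem _ h3 a

/-- the key algebraic fact for the fibre bound -/
theorem npc_fiber_fact [Finite G] (p : ℕ) [Fact p.Prime] (z : G) (ζ : ℂ) (χ : G → ℂ)
    (hHP : HP p ζ z χ) (hzc : z ∉ Subgroup.center G) (V : Subgroup G)
    (hpV : ¬ p ∣ Nat.card V) (a : G) (hap : a ^ p = 1) (b : ℕ) (hb : a ^ b = z)
    (w w₀ u u₀ : G) (hw : w ∈ V) (hw₀ : w₀ ∈ V) (hu : u ∈ Subgroup.center G) (huV : u ∈ V)
    (hu₀ : u₀ ∈ Subgroup.center G) (hu₀V : u₀ ∈ V)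
    (h : a⁻¹ * w * a * w⁻¹ * u = a⁻¹ * w₀ * a * w₀⁻¹ * u₀) :
    w₀⁻¹ * w ∈ Subgroup.center G ∧ u = u₀ := by
  have hcc : u₀ * u⁻¹ ∈ Subgroup.center G := Subgroup.mul_mem _ hu₀ (Subgroup.inv_mem _ hu)
  have hcV : u₀ * u⁻¹ ∈ V := V.mul_mem hu₀V (V.inv_mem huV)
  have h1 : w * a * w⁻¹ * u = w₀ * a * w₀⁻¹ * u₀ := by
    have h0 := congrArg (fun x => a * x) h
    simpa [mul_assoc] using h0
  have h1' : w * a * w⁻¹ = w₀ * a * w₀⁻¹ * (u₀ * u⁻¹) := by
    calc w * a * w⁻¹ = (w * a * w⁻¹ * u) * u⁻¹ := by group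
      _ = (w₀ * a * w₀⁻¹ * u₀) * u⁻¹ := by rw [h1]
      _ = w₀ * a * w₀⁻¹ * (u₀ * u⁻¹) := by group
  have hcw : w₀⁻¹ * (u₀ * u⁻¹) * w₀ = u₀ * u⁻¹ := by
    have h0 := Subgroup.mem_center_iff.mp hcc w₀
    rw [mul_assoc, ← h0, inv_mul_cancel_left]
  have h2 : (w₀⁻¹ * w) * a * (w₀⁻¹ * w)⁻¹ = a * (u₀ * u⁻¹) := by
    calc (w₀⁻¹ * w) * a * (w₀⁻¹ * w)⁻¹ = w₀⁻¹ * (w * a * w⁻¹) * w₀ := by group
      _ = w₀⁻¹ * (w₀ * a * w₀⁻¹ * (u₀ * u⁻¹)) * w₀ := by rw [h1']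
      _ = a * (w₀⁻¹ * (u₀ * u⁻¹) * w₀) := by group
      _ = a * (u₀ * u⁻¹) := by rw [hcw]
  have h3 : (u₀ * u⁻¹) ^ p = 1 := by
    have hac : Commute a (u₀ * u⁻¹) := Subgroup.mem_center_iff.mp hcc a
    have h0 : (a * (u₀ * u⁻¹)) ^ p = 1 := by
      rw [← h2, conj_pow, hap]; group
    rw [hac.mul_pow, hap, one_mul] at h0
    exact h0
  have hc1 : u₀ * u⁻¹ = 1 := npc_eq_one p V hpV _ hcV h3
  refine ⟨?_, ?_⟩
  · have h4 : Commute (w₀⁻¹ * w) a := by
      rw [hc1, mul_one] at h2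
      show (w₀⁻¹ * w) * a = a * (w₀⁻¹ * w)
      calc (w₀⁻¹ * w) * a = ((w₀⁻¹ * w) * a * (w₀⁻¹ * w)⁻¹) * (w₀⁻¹ * w) := by group
        _ = a * (w₀⁻¹ * w) := by rw [h2]
    have h5 : (w₀⁻¹ * w) * z = z * (w₀⁻¹ * w) := by
      rw [← hb]; exact h4.pow_right b
    exact npc_cent p z ζ χ hHP hzc V hpV _ (V.mul_mem (V.inv_mem hw₀) hw) h5
  · exact (mul_inv_eq_one.mp hc1).symm

theorem npc_sum_ge [Finite G] (p : ℕ) [Fact p.Prime] (z : G) (ζ : ℂ) (χ : G → ℂ)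
    (hHP : HP p ζ z χ) (hzc : z ∉ Subgroup.center G) (V : Subgroup G) [hV : V.Normal]
    (hpV : ¬ p ∣ Nat.card V) (a : G) (hap : a ^ p = 1) (b : ℕ) (hb : a ^ b = z)
    (F : G → ℝ) (hF : ∀ g, 0 ≤ F g) (r : ℝ)
    (hFr : ∀ w ∈ V, ∀ u ∈ Subgroup.center G, F (w * a * w⁻¹ * u) = r)
    [Fintype V] :
    (Fintype.card V : ℝ) * r ≤ ∑ v : V, F (a * v) := by
  classical
  let C : Subgroup ↥V := (Subgroup.center G).subgroupOf V
  let _ : Fintype ↥C := Fintype.ofFinite _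
  let Θ : ↥V × ↥C → ↥V := fun x =>
    ⟨a⁻¹ * x.1.1 * a * x.1.1⁻¹ * x.2.1.1,
      V.mul_mem (V.mul_mem (hV.conj_mem' _ x.1.2 a) (V.inv_mem x.1.2)) x.2.1.2⟩
  have hfib : ∀ bb : ↥V, (Finset.univ.filter (fun x => Θ x = bb)).card ≤ Fintype.card ↥C := by
    intro bb
    rcases (Finset.univ.filter (fun x => Θ x = bb)).eq_empty_or_nonempty with he | ⟨x₀, hx₀⟩
    · rw [he]; simp
    · have hx₀' : Θ x₀ = bb := (Finset.mem_filter.mp hx₀).2
      have hsub : Finset.univ.filter (fun x => Θ x = bb) ⊆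
          (Finset.univ : Finset ↥C).image (fun c => (x₀.1 * c.1, x₀.2)) := by
        intro x hx
        have hx' : Θ x = bb := (Finset.mem_filter.mp hx).2
        have heq : a⁻¹ * x.1.1 * a * x.1.1⁻¹ * x.2.1.1 =
            a⁻¹ * x₀.1.1 * a * x₀.1.1⁻¹ * x₀.2.1.1 :=
          congrArg Subtype.val (hx'.trans hx₀'.symm)
        obtain ⟨h1, h2⟩ := npc_fiber_fact p z ζ χ hHP hzc V hpV a hap b hb x.1.1 x₀.1.1
          x.2.1.1 x₀.2.1.1 x.1.2 x₀.1.2 (Subgroup.mem_subgroupOf.mp x.2.2) x.2.1.2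
          (Subgroup.mem_subgroupOf.mp x₀.2.2) x₀.2.1.2 heq
        refine Finset.mem_image.mpr
          ⟨⟨x₀.1⁻¹ * x.1, Subgroup.mem_subgroupOf.mpr ?_⟩, Finset.mem_univ _, ?_⟩
        · simpa using h1
        · refine Prod.ext ?_ ?_
          · simp
          · exact Subtype.ext (Subtype.ext h2.symm)
      calc (Finset.univ.filter (fun x => Θ x = bb)).card
          ≤ ((Finset.univ : Finset ↥C).image (fun c => (x₀.1 * c.1, x₀.2))).card :=
            Finset.card_le_card hsub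
        _ ≤ (Finset.univ : Finset ↥C).card := Finset.card_image_le
        _ = Fintype.card ↥C := Finset.card_univ
  have hmain := npc_sum_fiber Θ (fun v : ↥V => F (a * v.1)) (fun v => hF _) (Fintype.card ↥C) hfib
  have hL : ∑ x : ↥V × ↥C, F (a * (Θ x).1) =
      (Fintype.card ↥V : ℝ) * (Fintype.card ↥C : ℝ) * r := by
    have h0 : ∀ x : ↥V × ↥C, F (a * (Θ x).1) = r := by
      intro x
      have e : a * (Θ x).1 = x.1.1 * a * x.1.1⁻¹ * x.2.1.1 := by
        show a * (a⁻¹ * x.1.1 * a * x.1.1⁻¹ * x.2.1.1) = _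
        group
      rw [e]; exact hFr _ x.1.2 _ (Subgroup.mem_subgroupOf.mp x.2.2)
    rw [Finset.sum_congr rfl (fun x _ => h0 x), Finset.sum_const, Finset.card_univ,
      Fintype.card_prod, nsmul_eq_mul]
    push_cast; ring
  rw [hL] at hmain
  have hCpos : (0 : ℝ) < (Fintype.card ↥C : ℝ) := by exact_mod_cast Fintype.card_pos
  have h9 : (Fintype.card ↥C : ℝ) * ((Fintype.card ↥V : ℝ) * r) ≤
      (Fintype.card ↥C : ℝ) * ∑ v : V, F (a * v) := by
    calc (Fintype.card ↥C : ℝ) * ((Fintype.card ↥V : ℝ) * r)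
        = (Fintype.card ↥V : ℝ) * (Fintype.card ↥C : ℝ) * r := by ring
      _ ≤ _ := hmain
  exact le_of_mul_le_mul_left h9 hCpos

end grp

theorem npc_pow_p {G : Type u} [Group G] (p : ℕ) (z : G) (hz : orderOf z = p) (x : G)
    (hx : x ∈ Subgroup.zpowers z) : x ^ p = 1 := by
  obtain ⟨k, rfl⟩ := Subgroup.mem_zpowers_iff.mp hx
  rw [← zpow_natCast, ← zpow_mul, mul_comm, zpow_mul, zpow_natCast, ← hz, pow_orderOf_eq_one,
    one_zpow]

/-- Under `HP` (and the statement of HP-IRR for all groups), every normal subgroup of order prime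
to `p` is central. -/
theorem hp_pprime_central {G : Type u} [Group G] [Fintype G] (p : ℕ) [Fact p.Prime] (hp5 : 5 ≤ p)
    (hirr : ∀ (H : Type u) [Group H] [Finite H], p ∣ Nat.card H → ¬ p ^ 2 ∣ Nat.card H →
      (∀ L : Subgroup H, L.Normal → Nat.card L ≠ p) → ∀ ψ : H → ℂ, IsCharacter H ψ →
      (∀ g : H, ψ g = ψ 1 → g = 1) → 2 * charDegree ψ + 1 = p → IsIrrCharacter H ψ)
    (hsq : ¬ p ^ 2 ∣ Nat.card G)
    (hnn : ∀ H : Subgroup G, H.Normal → Nat.card H ≠ p)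
    (χ : IrrCharacter G) (hfaith : ∀ g : G, χ.1 g = χ.1 1 → g = 1)
    (hdeg : 2 * charDegree χ.1 + 1 = p) (z : G) (ζ : ℂ) (hHP : HP p ζ z χ.1)
    (hη0 : eta p ζ 0 = (((p - 1) / 2 : ℕ) : ℂ))
    (hηs : ∑ t : ZMod p, eta p ζ t * conj (eta p ζ t) = ((p * ((p - 1) / 2) : ℕ) : ℂ))
    (V : Subgroup G) (hV : V.Normal) (hpV : ¬ p ∣ Nat.card V) : V ≤ Subgroup.center G := by
  classical
  have hp : p.Prime := Fact.out
  have hzc : z ∉ Subgroup.center G := npc_not_center p z hHP.hz hnn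
  by_contra hVZ
  obtain ⟨hd0, hd1⟩ := Cfsg.Agent.Lib.Helper83.irr_degree χ.2
  -- the subgroup H
  let H : Subgroup G := Subgroup.zpowers z ⊔ V
  have hzH : z ∈ H := (le_sup_left : Subgroup.zpowers z ≤ H) (Subgroup.mem_zpowers z)
  have hVH : V ≤ H := le_sup_right
  -- no normal subgroup of order p in H
  have hnnH : ∀ L : Subgroup ↥H, L.Normal → Nat.card L ≠ p := by
    intro L hL hcard
    apply hVZ
    let PH : Subgroup ↥H := (Subgroup.zpowers z).subgroupOf H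
    have hPHcard : Nat.card PH = p := by
      rw [Nat.card_congr
        (Subgroup.subgroupOfEquivOfLe (le_sup_left : Subgroup.zpowers z ≤ H)).toEquiv,
        Nat.card_zpowers, hHP.hz]
    have hLp : IsPGroup p L := IsPGroup.of_card (n := 1) (by rw [hcard, pow_one])
    have hPp : IsPGroup p PH := IsPGroup.of_card (n := 1) (by rw [hPHcard, pow_one])
    have hsup : IsPGroup p (L ⊔ PH : Subgroup ↥H) := IsPGroup.to_sup_of_normal_left hLp hPp
    obtain ⟨k, hk⟩ := IsPGroup.iff_card.mp hsup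
    have hk1 : k ≤ 1 := by
      by_contra hk2
      push Not at hk2
      apply hsq
      have h1 : p ^ 2 ∣ Nat.card (L ⊔ PH : Subgroup ↥H) := by
        rw [hk]; exact pow_dvd_pow p hk2
      exact h1.trans ((Subgroup.card_subgroup_dvd_card _).trans (Subgroup.card_subgroup_dvd_card H))
    have hcardsup : Nat.card (L ⊔ PH : Subgroup ↥H) ≤ p := by
      rw [hk]
      calc p ^ k ≤ p ^ 1 := Nat.pow_le_pow_right hp.pos hk1
        _ = p := pow_one p
    have hL1 : L = L ⊔ PH :=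
      Subgroup.eq_of_le_of_card_ge le_sup_left (by rw [hcard]; exact hcardsup)
    have hPL : PH ≤ L := by rw [hL1]; exact le_sup_right
    have hPL' : PH = L := Subgroup.eq_of_le_of_card_ge hPL (by rw [hcard, hPHcard])
    intro v hv
    have hconj : v * z * v⁻¹ ∈ Subgroup.zpowers z := by
      have h1 : (⟨z, hzH⟩ : ↥H) ∈ L := by
        rw [← hPL']; exact Subgroup.mem_subgroupOf.mpr (Subgroup.mem_zpowers z)
      have h2 := hL.conj_mem _ h1 ⟨v, hVH hv⟩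
      rw [← hPL'] at h2
      exact Subgroup.mem_subgroupOf.mp h2
    have h3 : v * z * v⁻¹ * z⁻¹ ∈ Subgroup.zpowers z :=
      Subgroup.mul_mem _ hconj (Subgroup.inv_mem _ (Subgroup.mem_zpowers z))
    have h4 : v * z * v⁻¹ * z⁻¹ ∈ V := by
      have h0 := V.mul_mem hv (hV.conj_mem _ (V.inv_mem hv) z)
      simpa [mul_assoc] using h0
    have h5 : (v * z * v⁻¹ * z⁻¹) ^ p = 1 := npc_pow_p p z hHP.hz _ h3
    have h6 := npc_eq_one p V hpV _ h4 h5
    have h7 : v * z = z * v := by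
      calc v * z = (v * z * v⁻¹ * z⁻¹) * (z * v) := by group
        _ = z * v := by rw [h6, one_mul]
    exact npc_cent p z ζ χ.1 hHP hzc V hpV v hv h7
  -- the restriction of χ to H is irreducible
  let ψ : ↥H → ℂ := fun h => χ.1 h
  have hχc : IsCharacter G χ.1 := by
    obtain ⟨n, ρ, -, hρ⟩ := χ.2
    exact ⟨n, ρ, hρ⟩
  have hψc : IsCharacter ↥H ψ := Cfsg.Agent.Lib.Helper4.isCharacter_restrict H χ.1 hχc
  have hψf : ∀ g : ↥H, ψ g = ψ 1 → g = 1 := by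
    intro g hg
    exact Subtype.ext (hfaith g.1 hg)
  have hψd : 2 * charDegree ψ + 1 = p := hdeg
  have hdivH : p ∣ Nat.card ↥H := by
    have h0 := Subgroup.card_dvd_of_le (le_sup_left : Subgroup.zpowers z ≤ H)
    rwa [Nat.card_zpowers, hHP.hz] at h0
  have hsqH : ¬ p ^ 2 ∣ Nat.card ↥H :=
    fun h => hsq (h.trans (Subgroup.card_subgroup_dvd_card H))
  have hψi : IsIrrCharacter ↥H ψ := hirr ↥H hdivH hsqH hnnH ψ hψc hψf hψd
  let _ : Fintype ↥H := Fintype.ofFinite _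
  have hnorm : ∑ h : ↥H, ‖ψ h‖ ^ 2 = (Nat.card ↥H : ℝ) := by
    have h1 := Cfsg.Agent.Lib.Helper83.irr_orthonormal (⟨ψ, hψi⟩ : IrrCharacter ↥H) ⟨ψ, hψi⟩
    rw [if_pos rfl] at h1
    unfold classInner at h1
    have hc0 : (Nat.card ↥H : ℂ) ≠ 0 := by
      exact_mod_cast (Nat.card_pos).ne'
    have h2 : ∑ g : ↥H, ψ g * conj (ψ g) = (Nat.card ↥H : ℂ) :=
      ((inv_mul_eq_one₀ hc0).mp h1).symm
    have h3 : ∀ g : ↥H, ψ g * conj (ψ g) = ((‖ψ g‖ ^ 2 : ℝ) : ℂ) := by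
      intro g; rw [Complex.mul_conj, Complex.normSq_eq_norm_sq]
    rw [Finset.sum_congr rfl (fun g _ => h3 g)] at h2
    exact_mod_cast h2
  -- the injection (t, v) ↦ z ^ t * v
  let _ : Fintype ↥V := Fintype.ofFinite _
  let φ : ZMod p × ↥V → ↥H := fun x =>
    ⟨z ^ x.1.val * x.2.1, H.mul_mem (H.pow_mem hzH _) (hVH x.2.2)⟩
  have hφinj : Function.Injective φ := by
    rintro ⟨t, v⟩ ⟨t', v'⟩ hxy
    have h1 : z ^ t.val * v.1 = z ^ t'.val * v'.1 := congrArg Subtype.val hxy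
    have h2 : (z ^ t'.val)⁻¹ * z ^ t.val = v'.1 * v.1⁻¹ := by
      calc (z ^ t'.val)⁻¹ * z ^ t.val = (z ^ t'.val)⁻¹ * (z ^ t.val * v.1) * v.1⁻¹ := by group
        _ = (z ^ t'.val)⁻¹ * (z ^ t'.val * v'.1) * v.1⁻¹ := by rw [h1]
        _ = v'.1 * v.1⁻¹ := by group
    have h3 : ((z ^ t'.val)⁻¹ * z ^ t.val) ^ p = 1 :=
      npc_pow_p p z hHP.hz _ (Subgroup.mul_mem _
        (Subgroup.inv_mem _ (Subgroup.pow_mem _ (Subgroup.mem_zpowers z) _))
        (Subgroup.pow_mem _ (Subgroup.mem_zpowers z) _))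
    have h4 := npc_eq_one p V hpV _ (by rw [h2]; exact V.mul_mem v'.2 (V.inv_mem v.2)) h3
    have h5 : z ^ t.val = z ^ t'.val := by
      rw [inv_mul_eq_one] at h4; exact h4.symm
    have h6 := npc_zpow_inj p z hHP.hz t t' h5
    subst h6
    have h7 : v.1 = v'.1 := mul_left_cancel h1
    exact Prod.ext rfl (Subtype.ext h7)
  have hlow : ∑ x : ZMod p × ↥V, ‖χ.1 (z ^ x.1.val * x.2.1)‖ ^ 2 ≤ ∑ h : ↥H, ‖ψ h‖ ^ 2 := by
    have h1 : ∑ x : ZMod p × ↥V, ‖χ.1 (z ^ x.1.val * x.2.1)‖ ^ 2 =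
        ∑ h ∈ Finset.univ.image φ, ‖ψ h‖ ^ 2 := by
      rw [Finset.sum_image (fun x _ y _ hxy => hφinj hxy)]
    rw [h1]
    exact Finset.sum_le_univ_sum_of_nonneg (fun h => by positivity)
  -- the p-singular part
  have hFt : ∀ t : ZMod p, t ≠ 0 → (Fintype.card ↥V : ℝ) * ‖eta p ζ t‖ ^ 2 ≤
      ∑ v : ↥V, ‖χ.1 (z ^ t.val * v.1)‖ ^ 2 := by
    intro t ht
    have hap : (z ^ t.val) ^ p = 1 :=
      npc_pow_p p z hHP.hz _ (Subgroup.pow_mem _ (Subgroup.mem_zpowers z) _)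
    have hcop : (t.val).Coprime (orderOf z) := by
      rw [hHP.hz]
      apply Nat.Coprime.symm
      rw [Nat.Prime.coprime_iff_not_dvd hp]
      intro hdvd
      have h0 := Nat.le_of_dvd
        (Nat.pos_of_ne_zero (fun h0 => ht ((ZMod.val_eq_zero t).mp h0))) hdvd
      exact absurd (ZMod.val_lt t) (by omega)
    obtain ⟨b, hb⟩ := exists_pow_eq_self_of_coprime hcop
    refine npc_sum_ge p z ζ χ.1 hHP hzc V hpV (z ^ t.val) hap b hb (fun g => ‖χ.1 g‖ ^ 2)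
      (fun g => by positivity) (‖eta p ζ t‖ ^ 2) ?_
    intro w hw u hu
    have h1 : w * z ^ t.val * w⁻¹ * u = u * (w * z ^ t.val * w⁻¹) :=
      Subgroup.mem_center_iff.mp hu _
    have h2 := Cfsg.Agent.Lib.Helper83.irr_central_mul χ u hu (w * z ^ t.val * w⁻¹)
    have h3 := Cfsg.Agent.Lib.Helper83.irr_central_norm χ u hu
    have h4 : χ.1 (w * z ^ t.val * w⁻¹) = eta p ζ t := by
      rw [Cfsg.Agent.Lib.Helper83.irr_classFunction χ.2, hHP.hval]
    show ‖χ.1 (w * z ^ t.val * w⁻¹ * u)‖ ^ 2 = ‖eta p ζ t‖ ^ 2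
    rw [h1]
    have h5 : ‖χ.1 (u * (w * z ^ t.val * w⁻¹))‖ * (charDegree χ.1 : ℝ) =
        ‖eta p ζ t‖ * (charDegree χ.1 : ℝ) := by
      have h0 := congrArg norm h2
      rw [norm_mul, norm_mul, h3, h4, hd1, Complex.norm_natCast] at h0
      rw [h0, mul_comm]
    have he0 : (charDegree χ.1 : ℝ) ≠ 0 := by exact_mod_cast hd0.ne'
    rw [mul_right_cancel₀ he0 h5]
  -- |H| ≤ p |V|
  have hcardH : Nat.card ↥H ≤ p * Fintype.card ↥V := by
    have hsurj : Function.Surjective φ := by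
      rintro ⟨h, hh⟩
      have hh' : h ∈ ((Subgroup.zpowers z ⊔ V : Subgroup G) : Set G) := hh
      rw [Subgroup.mul_normal] at hh'
      obtain ⟨x, hx, v, hv, rfl⟩ := Set.mem_mul.mp hh'
      obtain ⟨k, rfl⟩ := Subgroup.mem_zpowers_iff.mp hx
      refine ⟨((k : ZMod p), ⟨v, hv⟩), Subtype.ext ?_⟩
      show z ^ ((k : ZMod p)).val * v = z ^ k * v
      rw [← zpow_natCast, ZMod.val_intCast, ← hHP.hz, zpow_mod_orderOf]
    have h0 := Fintype.card_le_of_surjective φ hsurj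
    rw [Fintype.card_prod, ZMod.card] at h0
    rw [Nat.card_eq_fintype_card]; exact h0
  -- the sum of the |eta_t|^2, t ≠ 0
  have he : (p - 1) / 2 = charDegree χ.1 := by omega
  have hηsum : ∑ t ∈ Finset.univ.filter (fun t : ZMod p => t ≠ 0), ‖eta p ζ t‖ ^ 2 =
      (charDegree χ.1 : ℝ) * ((charDegree χ.1 : ℝ) + 1) := by
    have h3 : ∀ t : ZMod p, eta p ζ t * conj (eta p ζ t) = ((‖eta p ζ t‖ ^ 2 : ℝ) : ℂ) := by
      intro t; rw [Complex.mul_conj, Complex.normSq_eq_norm_sq]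
    rw [Finset.sum_congr rfl (fun t _ => h3 t), he] at hηs
    have h4 : ∑ t : ZMod p, ‖eta p ζ t‖ ^ 2 = ((p * charDegree χ.1 : ℕ) : ℝ) := by
      exact_mod_cast hηs
    have h5 : ‖eta p ζ 0‖ ^ 2 + ∑ t ∈ Finset.univ.erase (0 : ZMod p), ‖eta p ζ t‖ ^ 2 =
        ∑ t : ZMod p, ‖eta p ζ t‖ ^ 2 :=
      Finset.add_sum_erase Finset.univ (fun t : ZMod p => ‖eta p ζ t‖ ^ 2) (Finset.mem_univ 0)
    rw [h4, hη0, he, Complex.norm_natCast] at h5
    have hpe : ((p * charDegree χ.1 : ℕ) : ℝ) =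
        (2 * (charDegree χ.1 : ℝ) + 1) * (charDegree χ.1 : ℝ) := by
      rw [← hdeg]; push_cast; ring
    rw [Finset.filter_ne']
    linarith
  -- conclusion
  have hchain : (Fintype.card ↥V : ℝ) * ((charDegree χ.1 : ℝ) * ((charDegree χ.1 : ℝ) + 1)) ≤
      (Nat.card ↥H : ℝ) := by
    rw [← hnorm]
    refine le_trans ?_ hlow
    rw [Fintype.sum_prod_type, ← hηsum, Finset.mul_sum]
    refine le_trans (Finset.sum_le_sum (fun t ht => hFt t (Finset.mem_filter.mp ht).2)) ?_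
    exact Finset.sum_le_univ_sum_of_nonneg
      (fun t => Finset.sum_nonneg (fun v _ => by positivity))
  have hH2 : (Nat.card ↥H : ℝ) ≤ (2 * (charDegree χ.1 : ℝ) + 1) * (Fintype.card ↥V : ℝ) := by
    have h0 : (Nat.card ↥H : ℝ) ≤ ((p * Fintype.card ↥V : ℕ) : ℝ) := by exact_mod_cast hcardH
    rw [← hdeg] at h0
    push_cast at h0
    exact h0
  have hVpos : (0 : ℝ) < (Fintype.card ↥V : ℝ) := by exact_mod_cast Fintype.card_pos
  have he2 : (2 : ℝ) ≤ (charDegree χ.1 : ℝ) := by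
    have : 2 ≤ charDegree χ.1 := by omega
    exact_mod_cast this
  nlinarith [mul_pos hVpos (by linarith : (0 : ℝ) < (charDegree χ.1 : ℝ))]

end Cfsg.Agent.Lib.Helper17.HPT
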