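import Mathlib

/-!
S2075 (`|Out(He)| = 2`, project of helper70), piece SYLC: a Sylow 2-subgroup of `C(z)`
(of order `2^10 · 21`) has centre `⟨z⟩`, given a normal self-centralising subgroup
`W = {e i}` of order 16 of `C(z)` whose 14 elements outside `⟨z⟩` are conjugate in `C(z)`.
-/

set_option autoImplicit false

namespace Cfsg.Agent.Lib.Helper17.HeOSYLC

/-- the size of a conjugacy class is the index of the centraliser. -/
theorem sylc_ncard_carrier_eq_index {G : Type*} [Group G] (x : G) :
    (ConjClasses.mk x).carrier.ncard = (Subgroup.centralizer ({x} : Set G)).index := by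
  have h1 := Subgroup.index_comap_of_surjective (MulAction.stabilizer (ConjAct G) x)
    (f := (ConjAct.toConjAct (G := G)).toMonoidHom) (MulEquiv.surjective _)
  rw [← ConjAct.orbit_eq_carrier_conjClasses, ← MulAction.index_stabilizer,
    Subgroup.centralizer_eq_comap_stabilizer]
  exact h1.symm

theorem sylc_card_filter : (Finset.univ.filter (fun j : Fin 16 => j ≠ 0 ∧ j ≠ 1)).card = 14 := by
  decide

/-- PIECE SYLC. -/
theorem sylow_center_exists {G : Type} [Group G] [Finite G] (z : G) (e : Fin 16 → G)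
    (hcard : Nat.card (Subgroup.centralizer ({z} : Set G)) = 21504)
    (he0 : e 0 = 1) (he1 : e 1 = z) (hz1 : z ≠ 1)
    (hinj : Function.Injective e)
    (hmul : ∀ i j, ∃ k, e i * e j = e k)
    (hez : ∀ i, e i * z = z * e i)
    (hnorm : ∀ c : G, c * z = z * c → ∀ i, ∃ j, c * e i * c⁻¹ = e j)
    (hself : ∀ c : G, c * z = z * c → (∀ i, c * e i = e i * c) → ∃ i, c = e i)
    (htr : ∀ j : Fin 16, j ≠ 0 → j ≠ 1 → ∃ c : G, c * z = z * c ∧ c * e 2 * c⁻¹ = e j) :
    ∃ S : Subgroup G, Nat.card S = 2 ^ 10 ∧ z ∈ S ∧ (∀ y ∈ S, z * y = y * z) ∧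
      ∀ x ∈ S, (∀ y ∈ S, x * y = y * x) → x = 1 ∨ x = z := by
  classical
  have hmemC : ∀ c : G, c ∈ Subgroup.centralizer ({z} : Set G) ↔ c * z = z * c := by
    intro c
    rw [Subgroup.mem_centralizer_iff]
    constructor
    · intro h; exact (h z rfl).symm
    · intro h y hy; rw [Set.mem_singleton_iff] at hy; rw [hy]; exact h.symm
  have hpow : ∀ (i : Fin 16) (n : ℕ), ∃ k, e i ^ n = e k := by
    intro i n
    induction n with
    | zero => exact ⟨0, by rw [pow_zero, he0]⟩
    | succ n ih =>
      obtain ⟨k, hk⟩ := ih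
      obtain ⟨k', hk'⟩ := hmul k i
      exact ⟨k', by rw [pow_succ, hk, hk']⟩
  let W : Subgroup G :=
    { carrier := Set.range e
      mul_mem' := by
        rintro _ _ ⟨i, rfl⟩ ⟨j, rfl⟩
        obtain ⟨k, hk⟩ := hmul i j
        exact ⟨k, hk.symm⟩
      one_mem' := ⟨0, he0⟩
      inv_mem' := by
        rintro _ ⟨i, rfl⟩
        obtain ⟨k, hk⟩ := hpow i (orderOf (e i) - 1)
        refine ⟨k, ?_⟩
        rw [← hk]
        refine (inv_eq_of_mul_eq_one_right ?_).symm
        rw [← pow_succ', Nat.sub_add_cancel (orderOf_pos _), pow_orderOf_eq_one] }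
  have hmemW : ∀ x : G, x ∈ W ↔ ∃ i, e i = x := fun x => Iff.rfl
  have hWC : W ≤ Subgroup.centralizer ({z} : Set G) := by
    intro w hw
    obtain ⟨i, rfl⟩ := (hmemW w).1 hw
    exact (hmemC _).2 (hez i)
  have hWcard : Nat.card W = 16 := by
    have h1 : Nat.card W = Nat.card (Set.range e) := rfl
    rw [h1, Nat.card_congr (Equiv.ofInjective e hinj).symm, Nat.card_fin]
  have hW'n : (W.subgroupOf (Subgroup.centralizer ({z} : Set G))).Normal := by
    constructor
    intro n hn g
    rw [Subgroup.mem_subgroupOf] at hn ⊢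
    obtain ⟨i, hi⟩ := (hmemW _).1 hn
    obtain ⟨j, hj⟩ := hnorm (g : G) ((hmemC _).1 g.2) i
    refine (hmemW _).2 ⟨j, ?_⟩
    rw [← hj, hi]
    rfl
  have hW'card : Nat.card (W.subgroupOf (Subgroup.centralizer ({z} : Set G))) = 2 ^ 4 := by
    rw [Nat.card_congr (Subgroup.subgroupOfEquivOfLe hWC).toEquiv, hWcard]; norm_num
  have hW'p : IsPGroup 2 (W.subgroupOf (Subgroup.centralizer ({z} : Set G))) :=
    IsPGroup.of_card hW'card
  haveI : Fact (Nat.Prime 2) := ⟨Nat.prime_two⟩
  obtain ⟨P⟩ : Nonempty (Sylow 2 (Subgroup.centralizer ({z} : Set G))) := inferInstance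
  have hW'P : W.subgroupOf (Subgroup.centralizer ({z} : Set G)) ≤ P :=
    hW'p.le_sylow_of_normal P
  have hfac : (21504 : ℕ).factorization 2 = 10 := by
    have h1 : (21504 : ℕ) = 2 ^ 10 * 21 := by norm_num
    rw [h1, Nat.factorization_mul (by norm_num) (by norm_num),
      Nat.Prime.factorization_pow Nat.prime_two]
    simp [Nat.factorization_eq_zero_of_not_dvd (show ¬ 2 ∣ 21 by norm_num)]
  have hPcard : Nat.card P = 2 ^ 10 := by
    rw [Sylow.card_eq_multiplicity, hcard, hfac]
  have hSC : (P : Subgroup (Subgroup.centralizer ({z} : Set G))).map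
      (Subgroup.centralizer ({z} : Set G)).subtype ≤ Subgroup.centralizer ({z} : Set G) := by
    rintro _ ⟨y, -, rfl⟩; exact y.2
  have hScard : Nat.card ((P : Subgroup (Subgroup.centralizer ({z} : Set G))).map
      (Subgroup.centralizer ({z} : Set G)).subtype) = 2 ^ 10 := by
    rw [← hPcard]
    exact (Nat.card_congr ((P : Subgroup (Subgroup.centralizer ({z} : Set G))).equivMapOfInjective
      (Subgroup.centralizer ({z} : Set G)).subtype
      (Subgroup.centralizer ({z} : Set G)).subtype_injective).toEquiv).symm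
  have hmemS : ∀ x : G, x ∈ (P : Subgroup (Subgroup.centralizer ({z} : Set G))).map
      (Subgroup.centralizer ({z} : Set G)).subtype ↔
      ∃ h : x ∈ Subgroup.centralizer ({z} : Set G),
        (⟨x, h⟩ : Subgroup.centralizer ({z} : Set G)) ∈ P := by
    intro x
    constructor
    · rintro ⟨y, hy, rfl⟩; exact ⟨y.2, hy⟩
    · rintro ⟨h, hx⟩; exact ⟨⟨x, h⟩, hx, rfl⟩
  have hWS : W ≤ (P : Subgroup (Subgroup.centralizer ({z} : Set G))).map
      (Subgroup.centralizer ({z} : Set G)).subtype := by
    intro w hw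
    rw [hmemS]
    refine ⟨hWC hw, hW'P ?_⟩
    rw [Subgroup.mem_subgroupOf]; exact hw
  refine ⟨(P : Subgroup (Subgroup.centralizer ({z} : Set G))).map
      (Subgroup.centralizer ({z} : Set G)).subtype, hScard, hWS ((hmemW _).2 ⟨1, he1⟩), ?_, ?_⟩
  · intro y hy
    exact ((hmemC y).1 (hSC hy)).symm
  · intro x hxS hxc
    have hxC : x ∈ Subgroup.centralizer ({z} : Set G) := hSC hxS
    obtain ⟨i, hi⟩ := hself x ((hmemC x).1 hxC)
      (fun i => hxc (e i) (hWS ((hmemW _).2 ⟨i, rfl⟩)))
    by_cases hi0 : i = 0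
    · left; rw [hi, hi0, he0]
    by_cases hi1 : i = 1
    · right; rw [hi, hi1, he1]
    exfalso
    have hPK : (P : Subgroup (Subgroup.centralizer ({z} : Set G))) ≤
        Subgroup.centralizer ({(⟨x, hxC⟩ : Subgroup.centralizer ({z} : Set G))} :
          Set (Subgroup.centralizer ({z} : Set G))) := by
      intro y hy
      rw [Subgroup.mem_centralizer_iff]
      intro h hh
      rw [Set.mem_singleton_iff] at hh
      rw [hh]
      apply Subtype.ext
      show x * (y : G) = (y : G) * x
      exact hxc (y : G) ((hmemS _).2 ⟨y.2, hy⟩)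
    have hodd : ¬ 2 ∣ (Subgroup.centralizer
        ({(⟨x, hxC⟩ : Subgroup.centralizer ({z} : Set G))} :
          Set (Subgroup.centralizer ({z} : Set G)))).index := by
      intro h2
      exact P.not_dvd_index (dvd_trans h2 (Subgroup.index_dvd_of_le hPK))
    have hcls : (ConjClasses.mk (⟨x, hxC⟩ : Subgroup.centralizer ({z} : Set G))).carrier.ncard
        = 14 := by
      have hf : Function.Injective (fun j : Fin 16 =>
          (⟨e j, hWC ((hmemW _).2 ⟨j, rfl⟩)⟩ : Subgroup.centralizer ({z} : Set G))) :=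
        fun a b hab => hinj (congrArg Subtype.val hab)
      have hset : (ConjClasses.mk (⟨x, hxC⟩ : Subgroup.centralizer ({z} : Set G))).carrier =
          (fun j : Fin 16 =>
            (⟨e j, hWC ((hmemW _).2 ⟨j, rfl⟩)⟩ : Subgroup.centralizer ({z} : Set G))) ''
            ((Finset.univ.filter (fun j : Fin 16 => j ≠ 0 ∧ j ≠ 1) : Finset (Fin 16)) :
              Set (Fin 16)) := by
        ext y
        rw [ConjClasses.mem_carrier_iff_mk_eq, ConjClasses.mk_eq_mk_iff_isConj, isConj_comm,
          isConj_iff]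
        constructor
        · rintro ⟨c, hc⟩
          obtain ⟨j, hj⟩ := hnorm (c : G) ((hmemC _).1 c.2) i
          have hy : (y : G) = e j := by
            rw [← hj, ← hi, ← hc]; rfl
          refine ⟨j, ?_, Subtype.ext hy.symm⟩
          rw [Finset.mem_coe, Finset.mem_filter]
          refine ⟨Finset.mem_univ _, ?_, ?_⟩
          · rintro rfl
            rw [he0] at hj
            have h1 : e i = 1 := by
              have h2 : e i = (c : G)⁻¹ * ((c : G) * e i * (c : G)⁻¹) * (c : G) := by group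
              rw [h2, hj]; group
            exact hi0 (hinj (by rw [h1, he0]))
          · rintro rfl
            rw [he1] at hj
            have hcz := (hmemC _).1 c.2
            have h1 : e i = z := by
              have h2 : e i = (c : G)⁻¹ * ((c : G) * e i * (c : G)⁻¹) * (c : G) := by group
              rw [h2, hj, mul_assoc, ← hcz, ← mul_assoc, inv_mul_cancel, one_mul]
            exact hi1 (hinj (by rw [h1, he1]))
        · rintro ⟨j, hj, rfl⟩
          rw [Finset.mem_coe, Finset.mem_filter] at hj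
          obtain ⟨-, hj0, hj1⟩ := hj
          obtain ⟨c1, hc1z, hc1⟩ := htr i hi0 hi1
          obtain ⟨c2, hc2z, hc2⟩ := htr j hj0 hj1
          have hc1C : c1 ∈ Subgroup.centralizer ({z} : Set G) := (hmemC _).2 hc1z
          have hc2C : c2 ∈ Subgroup.centralizer ({z} : Set G) := (hmemC _).2 hc2z
          refine ⟨⟨c2, hc2C⟩ * ⟨c1, hc1C⟩⁻¹, Subtype.ext ?_⟩
          show c2 * c1⁻¹ * x * (c2 * c1⁻¹)⁻¹ = e j
          rw [hi, ← hc1, ← hc2]; group
      rw [hset, Set.ncard_image_of_injective _ hf, Set.ncard_coe_finset, sylc_card_filter]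
    rw [sylc_ncard_carrier_eq_index] at hcls
    rw [hcls] at hodd
    exact hodd (by norm_num)

end Cfsg.Agent.Lib.Helper17.HeOSYLC
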