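import Mathlib
import Cfsg.Prelude.Def_KGroupFacts

/-!
# S2067 piece J3O-RIG (helper17, for helper37): rigidity of a generating pair up to two images
plus one non-inner automorphism gives `|Out J| = 2`
-/

set_option autoImplicit false

namespace Cfsg.Agent.Lib.Helper17.J3ORIG

universe u

theorem card_out_eq_two {J : Type u} [Group J] [Finite J] (a b x2 : J)
    (hgen : Subgroup.closure {a, b} = ⊤)
    (hrig : ∀ α : MulAut J, ∃ g : J, g * α b * g⁻¹ = b ∧
      (g * α a * g⁻¹ = a ∨ g * α a * g⁻¹ = x2))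
    (hout : ∃ ψ : MulAut J, ψ ∉ Cfsg.Inn J) :
    Nat.card (Cfsg.Out J) = 2 := by
  classical
  obtain ⟨ψ, hψ⟩ := hout
  have hψ1 : (QuotientGroup.mk ψ : Cfsg.Out J) ≠ 1 := by
    intro h
    exact hψ ((QuotientGroup.eq_one_iff ψ).mp h)
  have norm : ∀ α : MulAut J, ∃ β : MulAut J,
      (QuotientGroup.mk β : Cfsg.Out J) = QuotientGroup.mk α ∧ β b = b ∧
        (β a = a ∨ β a = x2) := by
    intro α
    obtain ⟨g, hb, ha⟩ := hrig α
    refine ⟨MulAut.conj g * α, ?_, ?_, ?_⟩
    · rw [QuotientGroup.mk_mul]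
      have h1 : (QuotientGroup.mk (MulAut.conj g) : Cfsg.Out J) = 1 :=
        (QuotientGroup.eq_one_iff _).mpr ⟨g, rfl⟩
      rw [h1, one_mul]
    · simpa [MulAut.mul_apply, MulAut.conj_apply] using hb
    · simpa [MulAut.mul_apply, MulAut.conj_apply] using ha
  have ext2 : ∀ β β' : MulAut J, β a = β' a → β b = β' b → β = β' := by
    intro β β' h1 h2
    have h3 : (β.toMonoidHom) = β'.toMonoidHom := by
      apply MonoidHom.eq_of_eqOn_dense hgen
      intro x hx
      rcases hx with rfl | rfl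
      · exact h1
      · exact h2
    ext x
    exact DFunLike.congr_fun h3 x
  obtain ⟨βψ, hβψ, hβψb, hβψa⟩ := norm ψ
  have hβψa' : βψ a = x2 := by
    rcases hβψa with h | h
    · exfalso
      have h1 : βψ = 1 := ext2 βψ 1 (by simpa using h) (by simpa using hβψb)
      rw [h1] at hβψ
      exact hψ1 (by rw [← hβψ]; rfl)
    · exact h
  have key : ∀ α : MulAut J, (QuotientGroup.mk α : Cfsg.Out J) = 1 ∨
      (QuotientGroup.mk α : Cfsg.Out J) = QuotientGroup.mk ψ := by
    intro α
    obtain ⟨β, hβ, hβb, hβa⟩ := norm α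
    rcases hβa with h | h
    · left
      have h1 : β = 1 := ext2 β 1 (by simpa using h) (by simpa using hβb)
      rw [← hβ, h1]; rfl
    · right
      have h1 : β = βψ := ext2 β βψ (by rw [h, hβψa']) (by rw [hβb, hβψb])
      rw [← hβ, h1, hβψ]
  rw [Nat.card_eq_two_iff]
  refine ⟨1, QuotientGroup.mk ψ, fun h => hψ1 h.symm, ?_⟩
  ext x
  simp only [Set.mem_insert_iff, Set.mem_singleton_iff, Set.mem_univ, iff_true]
  obtain ⟨α, rfl⟩ := QuotientGroup.mk_surjective x
  exact key α

end Cfsg.Agent.Lib.Helper17.J3ORIG
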