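import Cfsg.Agent.Lib.Helper4.CharSimple

set_option autoImplicit false

namespace Cfsg.Agent.Lib.Helper17

open Module
open scoped ComplexConjugate

section PM

variable {G : Type*} [Group G] {Ω : Type*} [Fintype Ω] [DecidableEq Ω] [MulAction G Ω]

/-- The permutation matrix of `g` acting on `Ω`. -/
def pm (g : G) : Matrix Ω Ω ℂ := Matrix.of fun x y => if x = g • y then 1 else 0

omit [Fintype Ω] in
theorem pm_apply (g : G) (x y : Ω) : pm g x y = if x = g • y then 1 else 0 := rfl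

theorem pm_mul_apply {ι : Type*} (g : G) (X : Matrix Ω ι ℂ) (ω : Ω) (i : ι) :
    ((pm g : Matrix Ω Ω ℂ) * X) ω i = X (g⁻¹ • ω) i := by
  rw [Matrix.mul_apply, Finset.sum_eq_single (g⁻¹ • ω)]
  · simp [pm_apply]
  · intro b _ hb
    rw [pm_apply, if_neg, zero_mul]
    intro h; apply hb; rw [h, inv_smul_smul]
  · intro h; exact absurd (Finset.mem_univ _) h

theorem mul_pm_apply {ι : Type*} (A : Matrix ι Ω ℂ) (g : G) (i : ι) (β : Ω) :
    (A * (pm g : Matrix Ω Ω ℂ)) i β = A i (g • β) := by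
  rw [Matrix.mul_apply, Finset.sum_eq_single (g • β)]
  · simp [pm_apply]
  · intro b _ hb
    rw [pm_apply, if_neg hb, mul_zero]
  · intro h; exact absurd (Finset.mem_univ _) h

omit [Fintype Ω] in
theorem pm_one : pm (1 : G) = (1 : Matrix Ω Ω ℂ) := by
  ext x y
  simp [pm_apply, Matrix.one_apply]

theorem pm_mul (g h : G) : (pm (g * h) : Matrix Ω Ω ℂ) = (pm g : Matrix Ω Ω ℂ) * (pm h : Matrix Ω Ω ℂ) := by
  ext x y
  rw [pm_mul_apply, pm_apply, pm_apply, mul_smul]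
  congr 1
  rw [eq_iff_iff]
  constructor
  · intro hx; rw [hx, inv_smul_smul]
  · intro hx; rw [← hx, smul_inv_smul]

theorem trace_pm (g : G) :
    Matrix.trace (pm g : Matrix Ω Ω ℂ) = (Nat.card (MulAction.fixedBy Ω g) : ℂ) := by
  rw [Matrix.trace]
  simp only [Matrix.diag_apply, pm_apply]
  rw [Finset.sum_boole, Nat.card_eq_fintype_card, Fintype.card_subtype]
  congr 2
  ext x
  simp [MulAction.mem_fixedBy, eq_comm]

/-- `G`-invariant matrices. -/
def InvMat (G : Type*) [Group G] {Ω : Type*} [MulAction G Ω] (A : Matrix Ω Ω ℂ) : Prop :=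
  ∀ (g : G) (α β : Ω), A (g • α) (g • β) = A α β

theorem InvMat.comm {A : Matrix Ω Ω ℂ} (hA : InvMat G A) (g : G) : (pm g : Matrix Ω Ω ℂ) * A = A * (pm g : Matrix Ω Ω ℂ) := by
  ext α β
  rw [pm_mul_apply, mul_pm_apply, ← hA g (g⁻¹ • α) β, smul_inv_smul]

end PM

section Avg

variable {G : Type*} [Group G] [Fintype G] {Ω : Type*} [Fintype Ω] [DecidableEq Ω] [MulAction G Ω]
variable {ι : Type*} [Fintype ι] [DecidableEq ι]

/-- Trace of an endomorphism of a space of rectangular matrices in the standard basis. -/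
theorem trace_eq_sum (F : Matrix Ω ι ℂ →ₗ[ℂ] Matrix Ω ι ℂ) :
    LinearMap.trace ℂ _ F = ∑ ω, ∑ i, F (Matrix.single ω i 1) ω i := by
  rw [LinearMap.trace_eq_matrix_trace ℂ (Matrix.stdBasis ℂ Ω ι), Matrix.trace,
    Fintype.sum_prod_type]
  refine Finset.sum_congr rfl fun ω _ => Finset.sum_congr rfl fun i _ => ?_
  rw [Matrix.diag_apply, LinearMap.toMatrix_apply, Matrix.stdBasis_eq_single]
  simp [Matrix.stdBasis]

/-- Left multiplication by a square matrix. -/
def lmul (A : Matrix Ω Ω ℂ) : Matrix Ω ι ℂ →ₗ[ℂ] Matrix Ω ι ℂ where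
  toFun X := A * X
  map_add' X Y := Matrix.mul_add A X Y
  map_smul' c X := by simp

omit [DecidableEq Ω] [DecidableEq ι] [Fintype ι] in
theorem lmul_apply (A : Matrix Ω Ω ℂ) (X : Matrix Ω ι ℂ) : lmul A X = A * X := rfl

/-- The averaging operator `X ↦ |G|⁻¹ ∑ g, P(g) X D(g⁻¹)`. -/
noncomputable def avg (D : G → Matrix ι ι ℂ) : Matrix Ω ι ℂ →ₗ[ℂ] Matrix Ω ι ℂ where
  toFun X := (Nat.card G : ℂ)⁻¹ • ∑ g : G, (pm g : Matrix Ω Ω ℂ) * X * D g⁻¹
  map_add' X Y := by
    rw [← smul_add, ← Finset.sum_add_distrib]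
    congr 1
    refine Finset.sum_congr rfl fun g _ => ?_
    rw [Matrix.mul_add, Matrix.add_mul]
  map_smul' c X := by
    simp only [RingHom.id_apply]
    rw [smul_comm]
    congr 1
    rw [Finset.smul_sum]
    refine Finset.sum_congr rfl fun g _ => ?_
    simp

omit [DecidableEq ι] in
theorem avg_apply (D : G → Matrix ι ι ℂ) (X : Matrix Ω ι ℂ) :
    avg D X = (Nat.card G : ℂ)⁻¹ • ∑ g : G, (pm g : Matrix Ω Ω ℂ) * X * D g⁻¹ := rfl

variable (D : G → Matrix ι ι ℂ)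

/-- `X` intertwines the matrix representation `D` with the permutation representation. -/
def IsTw (X : Matrix Ω ι ℂ) : Prop := ∀ g : G, (pm g : Matrix Ω Ω ℂ) * X = X * D g

omit [DecidableEq ι] in
theorem avg_isTw (hD : ∀ g h, D (g * h) = D g * D h) (X : Matrix Ω ι ℂ) : IsTw D (avg D X) := by
  intro h
  rw [avg_apply, Matrix.mul_smul, Matrix.smul_mul, Matrix.mul_sum, Matrix.sum_mul]
  congr 1
  conv_rhs => rw [← Equiv.sum_comp (Equiv.mulLeft h)]
  refine Finset.sum_congr rfl fun g _ => ?_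
  simp only [Equiv.coe_mulLeft]
  rw [pm_mul, Matrix.mul_assoc, Matrix.mul_assoc, Matrix.mul_assoc, Matrix.mul_assoc, ← hD,
    mul_inv_rev, inv_mul_cancel_right]

theorem avg_of_isTw (hD : ∀ g h, D (g * h) = D g * D h) (hD1 : D 1 = 1) {X : Matrix Ω ι ℂ}
    (hX : IsTw D X) : avg D X = X := by
  rw [avg_apply]
  have h1 : ∀ g : G, (pm g : Matrix Ω Ω ℂ) * X * D g⁻¹ = X := by
    intro g
    rw [hX g, Matrix.mul_assoc, ← hD, mul_inv_cancel, hD1, Matrix.mul_one]
  rw [Finset.sum_congr rfl fun g _ => h1 g, Finset.sum_const, Finset.card_univ,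
    Nat.card_eq_fintype_card, ← Nat.cast_smul_eq_nsmul ℂ, smul_smul, inv_mul_cancel₀, one_smul]
  exact_mod_cast Fintype.card_ne_zero

theorem avg_avg (hD : ∀ g h, D (g * h) = D g * D h) (hD1 : D 1 = 1) (X : Matrix Ω ι ℂ) :
    avg D (avg D X) = avg D X := avg_of_isTw D hD hD1 (avg_isTw D hD X)

omit [DecidableEq ι] in
theorem avg_lmul {A : Matrix Ω Ω ℂ} (hA : InvMat G A) (X : Matrix Ω ι ℂ) :
    avg D (A * X) = A * avg D X := by
  rw [avg_apply, avg_apply, Matrix.mul_smul, Matrix.mul_sum]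
  congr 1
  refine Finset.sum_congr rfl fun g _ => ?_
  rw [← Matrix.mul_assoc, hA.comm g, Matrix.mul_assoc, Matrix.mul_assoc, Matrix.mul_assoc]

theorem mul_single_mul_apply (M : Matrix Ω Ω ℂ) (N : Matrix ι ι ℂ) (ω ω' : Ω) (i i' : ι) :
    (M * Matrix.single ω i (1 : ℂ) * N) ω' i' = M ω' ω * N i i' := by
  rw [Matrix.mul_apply, Finset.sum_eq_single i]
  · rw [Matrix.mul_apply, Finset.sum_eq_single ω]
    · simp
    · intro b _ hb
      simp [hb.symm]
    · intro h; exact absurd (Finset.mem_univ _) h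
  · intro b _ hb
    rw [Matrix.mul_apply]
    have : ∀ j, M ω' j * Matrix.single ω i (1 : ℂ) j b = 0 := by
      intro j
      simp [hb.symm]
    simp [this]
  · intro h; exact absurd (Finset.mem_univ _) h

theorem trace_lmul_avg (A : Matrix Ω Ω ℂ) :
    LinearMap.trace ℂ _ (lmul A ∘ₗ avg D) =
      (Nat.card G : ℂ)⁻¹ * ∑ g : G, Matrix.trace (A * (pm g : Matrix Ω Ω ℂ)) * Matrix.trace (D g⁻¹) := by
  rw [trace_eq_sum]
  simp only [LinearMap.comp_apply, lmul_apply, avg_apply, Matrix.mul_smul, Matrix.mul_sum,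
    Matrix.smul_apply, Matrix.sum_apply, smul_eq_mul]
  simp only [← Matrix.mul_assoc, mul_single_mul_apply]
  have h1 : ∀ g : G, Matrix.trace (A * (pm g : Matrix Ω Ω ℂ)) * Matrix.trace (D g⁻¹) =
      ∑ ω, ∑ i, (A * (pm g : Matrix Ω Ω ℂ)) ω ω * D g⁻¹ i i := by
    intro g
    rw [Matrix.trace, Matrix.trace, Finset.sum_mul]
    simp only [Matrix.diag_apply, Finset.mul_sum]
  simp only [h1, Finset.mul_sum]
  symm
  rw [Finset.sum_comm]
  refine Finset.sum_congr rfl fun ω _ => ?_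
  exact Finset.sum_comm

omit [DecidableEq ι] in
theorem lmul_one_comp : (lmul (1 : Matrix Ω Ω ℂ) ∘ₗ avg D : Matrix Ω ι ℂ →ₗ[ℂ] Matrix Ω ι ℂ) = avg D := by
  ext1 X
  rw [LinearMap.comp_apply, lmul_apply, Matrix.one_mul]

theorem trace_avg :
    LinearMap.trace ℂ _ (avg D : Matrix Ω ι ℂ →ₗ[ℂ] Matrix Ω ι ℂ) =
      (Nat.card G : ℂ)⁻¹ * ∑ g : G, Matrix.trace (pm g : Matrix Ω Ω ℂ) * Matrix.trace (D g⁻¹) := by
  rw [← lmul_one_comp, trace_lmul_avg]
  simp only [Matrix.one_mul]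

/-- The space of intertwiners. -/
def tw : Submodule ℂ (Matrix Ω ι ℂ) where
  carrier := {X | IsTw D X}
  add_mem' := by
    intro X Y hX hY g
    rw [Matrix.mul_add, Matrix.add_mul, hX g, hY g]
  zero_mem' := by
    intro g
    simp
  smul_mem' := by
    intro c X hX g
    rw [Matrix.mul_smul, Matrix.smul_mul, hX g]

omit [Fintype G] [DecidableEq ι] in
theorem mem_tw (X : Matrix Ω ι ℂ) : X ∈ tw D ↔ IsTw D X := Iff.rfl

theorem isProj_avg (hD : ∀ g h, D (g * h) = D g * D h) (hD1 : D 1 = 1) :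
    LinearMap.IsProj (tw D : Submodule ℂ (Matrix Ω ι ℂ)) (avg D) :=
  ⟨fun X => avg_isTw D hD X, fun X hX => avg_of_isTw D hD hD1 hX⟩

theorem finrank_tw (hD : ∀ g h, D (g * h) = D g * D h) (hD1 : D 1 = 1) :
    (finrank ℂ (tw D : Submodule ℂ (Matrix Ω ι ℂ)) : ℂ) =
      (Nat.card G : ℂ)⁻¹ * ∑ g : G, Matrix.trace (pm g : Matrix Ω Ω ℂ) * Matrix.trace (D g⁻¹) := by
  rw [← trace_avg]
  exact ((isProj_avg D hD hD1).trace).symm

theorem avg_eq_zero (hD : ∀ g h, D (g * h) = D g * D h) (hD1 : D 1 = 1)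
    (h0 : ∑ g : G, Matrix.trace (pm g : Matrix Ω Ω ℂ) * Matrix.trace (D g⁻¹) = 0) :
    (avg D : Matrix Ω ι ℂ →ₗ[ℂ] Matrix Ω ι ℂ) = 0 := by
  have h1 := finrank_tw (Ω := Ω) D hD hD1
  rw [h0, mul_zero] at h1
  have h2 : finrank ℂ (tw D : Submodule ℂ (Matrix Ω ι ℂ)) = 0 := by exact_mod_cast h1
  have h3 : (tw D : Submodule ℂ (Matrix Ω ι ℂ)) = ⊥ := Submodule.finrank_eq_zero.mp h2
  ext1 X
  have h4 : avg D X ∈ (tw D : Submodule ℂ (Matrix Ω ι ℂ)) := avg_isTw D hD X
  rw [h3, Submodule.mem_bot] at h4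
  rw [h4, LinearMap.zero_apply]

end Avg

section Integral

theorem isIntegral_trace_of_eigen {E : Type*} [AddCommGroup E] [Module ℂ E] [FiniteDimensional ℂ E]
    (T : Module.End ℂ E) (h : ∀ μ : ℂ, T.HasEigenvalue μ → IsIntegral ℤ μ) :
    IsIntegral ℤ (LinearMap.trace ℂ E T) := by
  rw [Module.End.trace_eq_sum_roots_charpoly_of_splits (IsAlgClosed.splits _)]
  refine IsIntegral.multiset_sum fun μ hμ => h μ ?_
  exact (Module.End.hasEigenvalue_iff_isRoot_charpoly T μ).mpr (Polynomial.isRoot_of_mem_roots hμ)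

/-- An eigenvalue of an integer matrix is an algebraic integer. -/
theorem isIntegral_of_int_eigenvec {κ : Type*} [Fintype κ] [DecidableEq κ] (A : Matrix κ κ ℤ)
    (v : κ → ℂ) (hv : v ≠ 0) (c : ℂ)
    (h : (A.map (Int.castRingHom ℂ)).mulVec v = c • v) : IsIntegral ℤ c := by
  have h1 : Module.End.HasEigenvalue (Matrix.toLin' (A.map (Int.castRingHom ℂ))) c := by
    apply Module.End.hasEigenvalue_of_hasEigenvector (x := v)
    refine ⟨?_, hv⟩
    rw [Module.End.mem_eigenspace_iff, Matrix.toLin'_apply]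
    exact h
  have h2 := (Module.End.hasEigenvalue_iff_isRoot_charpoly _ c).mp h1
  rw [Matrix.charpoly_toLin', Matrix.charpoly_map] at h2
  refine ⟨A.charpoly, Matrix.charpoly_monic A, ?_⟩
  rw [Polynomial.IsRoot.def, Polynomial.eval_map] at h2
  exact h2

variable {G : Type*} [Group G] [Fintype G] {Ω : Type*} [Fintype Ω] [DecidableEq Ω] [MulAction G Ω]
variable {ι : Type*} [Fintype ι] [DecidableEq ι] (D : G → Matrix ι ι ℂ)

theorem isIntegral_trace_lmul_avg (hD : ∀ g h, D (g * h) = D g * D h) (hD1 : D 1 = 1)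
    (B : Matrix Ω Ω ℤ) (hA : InvMat G (B.map (Int.castRingHom ℂ))) :
    IsIntegral ℤ (LinearMap.trace ℂ _
      (lmul (B.map (Int.castRingHom ℂ)) ∘ₗ avg D : Matrix Ω ι ℂ →ₗ[ℂ] Matrix Ω ι ℂ)) := by
  apply isIntegral_trace_of_eigen
  intro μ hμ
  obtain ⟨X, hX⟩ := hμ.exists_hasEigenvector
  have hX1 : (B.map (Int.castRingHom ℂ)) * avg D X = μ • X := Module.End.mem_eigenspace_iff.mp hX.1
  by_cases hμ0 : μ = 0
  · rw [hμ0]; exact isIntegral_zero
  have hY : (B.map (Int.castRingHom ℂ)) * avg D X = μ • avg D X := by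
    have := congrArg (avg D) hX1
    rw [avg_lmul D hA, avg_avg D hD hD1, map_smul] at this
    exact this
  have hY0 : avg D X ≠ 0 := by
    intro h0
    rw [h0, Matrix.mul_zero] at hX1
    exact hX.2 ((smul_eq_zero.mp hX1.symm).resolve_left hμ0)
  obtain ⟨ω, i, hωi⟩ : ∃ ω i, avg D X ω i ≠ 0 := by
    by_contra hcon
    push Not at hcon
    exact hY0 (Matrix.ext hcon)
  apply isIntegral_of_int_eigenvec B (fun ω => avg D X ω i)
  · intro h0; exact hωi (congrFun h0 ω)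
  · funext ω'
    have := congrFun (congrFun hY ω') i
    simpa [Matrix.mulVec, dotProduct, Matrix.mul_apply] using this

end Integral

section Theta

variable {G : Type*} [Group G] [Fintype G] {Ω : Type*} [Fintype Ω] [DecidableEq Ω] [MulAction G Ω]

/-- The "Hecke eigenvalue trace" of an invariant matrix at a class function. -/
noncomputable def theta (χ : G → ℂ) (A : Matrix Ω Ω ℂ) : ℂ :=
  (Nat.card G : ℂ)⁻¹ * ∑ g : G, Matrix.trace (A * (pm g : Matrix Ω Ω ℂ)) * χ g⁻¹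

theorem theta_def (χ : G → ℂ) (A : Matrix Ω Ω ℂ) : theta χ A =
    (Nat.card G : ℂ)⁻¹ * ∑ g : G, Matrix.trace (A * (pm g : Matrix Ω Ω ℂ)) * χ g⁻¹ := rfl

omit [Fintype G] in
/-- A matrix model of an irreducible character, with Schur's lemma. -/
theorem exists_matrix_rep {χ : G → ℂ} (hχ : IsIrrCharacter G χ) :
    ∃ (n : ℕ) (D : G → Matrix (Fin n) (Fin n) ℂ), (∀ g h, D (g * h) = D g * D h) ∧ D 1 = 1 ∧
      (∀ g, Matrix.trace (D g) = χ g) ∧
      (∀ M : Matrix (Fin n) (Fin n) ℂ, (∀ g, M * D g = D g * M) → ∃ c : ℂ, M = c • 1) ∧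
      n ≠ 0 := by
  obtain ⟨n, ρ, hρ, rfl⟩ := hχ
  have := hρ
  refine ⟨n, fun g => LinearMap.toMatrix' (ρ g), ?_, ?_, ?_, ?_, ?_⟩
  · intro g h
    show LinearMap.toMatrix' (ρ (g * h)) = LinearMap.toMatrix' (ρ g) * LinearMap.toMatrix' (ρ h)
    rw [map_mul, Module.End.mul_eq_comp, LinearMap.toMatrix'_comp]
  · show LinearMap.toMatrix' (ρ 1) = 1
    rw [map_one, Module.End.one_eq_id, LinearMap.toMatrix'_id]
  · intro g
    rw [Representation.character, LinearMap.trace_eq_matrix_trace ℂ (Pi.basisFun ℂ (Fin n)),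
      LinearMap.toMatrix_eq_toMatrix']
  · intro M hM
    have hc : ∀ g, Matrix.toLin' M ∘ₗ ρ g = ρ g ∘ₗ Matrix.toLin' M := by
      intro g
      have h1 := congrArg Matrix.toLin' (hM g)
      rw [Matrix.toLin'_mul, Matrix.toLin'_mul, Matrix.toLin'_toMatrix'] at h1
      exact h1
    let T : Representation.IntertwiningMap ρ ρ := ⟨Matrix.toLin' M, hc⟩
    obtain ⟨a, ha⟩ :=
      (Representation.IsIrreducible.algebraMap_intertwiningMap_bijective_of_isAlgClosed (ρ := ρ)).2 T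
    refine ⟨a, ?_⟩
    have h2 := congrArg Representation.IntertwiningMap.toLinearMap ha
    rw [Representation.IntertwiningMap.algebraMap_apply] at h2
    have h3 : Matrix.toLin' M = a • LinearMap.id := h2.symm
    have h4 := congrArg LinearMap.toMatrix' h3
    rw [LinearMap.toMatrix'_toLin', map_smul, LinearMap.toMatrix'_id] at h4
    exact h4
  · have := Cfsg.Agent.Lib.Helper4.finrank_pos_of_irreducible ρ
    rw [Module.finrank_fin_fun] at this
    exact this.ne'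

theorem theta_eq_trace {χ : G → ℂ} {n : ℕ} (D : G → Matrix (Fin n) (Fin n) ℂ)
    (hDχ : ∀ g, Matrix.trace (D g) = χ g) (A : Matrix Ω Ω ℂ) :
    theta χ A = LinearMap.trace ℂ _
      (lmul A ∘ₗ avg D : Matrix Ω (Fin n) ℂ →ₗ[ℂ] Matrix Ω (Fin n) ℂ) := by
  rw [trace_lmul_avg, theta_def]
  simp only [hDχ]

/-- Integrality of `theta` at irreducible characters for integral invariant matrices. -/
theorem theta_isIntegral {χ : G → ℂ} (hχ : IsIrrCharacter G χ) (B : Matrix Ω Ω ℤ)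
    (hA : InvMat G (B.map (Int.castRingHom ℂ))) :
    IsIntegral ℤ (theta χ (B.map (Int.castRingHom ℂ))) := by
  obtain ⟨n, D, hD, hD1, hDχ, -, -⟩ := exists_matrix_rep hχ
  rw [theta_eq_trace D hDχ]
  exact isIntegral_trace_lmul_avg D hD hD1 B hA

/-- The permutation character. -/
noncomputable def permChar (G : Type*) [Group G] (Ω : Type*) [MulAction G Ω] : G → ℂ :=
  fun g => (Nat.card (MulAction.fixedBy Ω g) : ℂ)

theorem classInner_permChar {χ : G → ℂ} (hχ : IsIrrCharacter G χ) :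
    classInner (permChar G Ω) χ =
      (Nat.card G : ℂ)⁻¹ * ∑ g : G, Matrix.trace (pm g : Matrix Ω Ω ℂ) * χ g⁻¹ := by
  rw [classInner]
  congr 1
  refine Finset.sum_congr rfl fun g _ => ?_
  rw [trace_pm, show χ g⁻¹ = conj (χ g) from Cfsg.Agent.Lib.Helper4.irr_inv ⟨χ, hχ⟩ g]
  rfl

/-- `theta` vanishes at non-constituents of the permutation character. -/
theorem theta_eq_zero {χ : G → ℂ} (hχ : IsIrrCharacter G χ)
    (h0 : classInner (permChar G Ω) χ = 0) (A : Matrix Ω Ω ℂ) : theta χ A = 0 := by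
  obtain ⟨n, D, hD, hD1, hDχ, -, -⟩ := exists_matrix_rep hχ
  rw [theta_eq_trace D hDχ]
  have h1 : (avg D : Matrix Ω (Fin n) ℂ →ₗ[ℂ] Matrix Ω (Fin n) ℂ) = 0 := by
    apply avg_eq_zero D hD hD1
    rw [classInner_permChar hχ] at h0
    simp only [hDχ]
    rcases mul_eq_zero.mp h0 with h | h
    · exact absurd (inv_eq_zero.mp h) Cfsg.Agent.Lib.Helper4.card_ne_zero_complex
    · exact h
  rw [h1, LinearMap.comp_zero, map_zero]

/-- Column orthogonality in the form `∑ χ(1) θ_χ(A) = tr A`. -/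
theorem sum_irr_theta [Fintype (IrrCharacter G)] (A : Matrix Ω Ω ℂ) :
    ∑ χ : IrrCharacter G, (χ : G → ℂ) 1 * theta (χ : G → ℂ) A = Matrix.trace A := by
  classical
  simp only [theta_def, Finset.mul_sum]
  rw [Finset.sum_comm]
  have h1 : ∀ g : G, ∑ χ : IrrCharacter G, (χ : G → ℂ) 1 * ((Nat.card G : ℂ)⁻¹ *
      (Matrix.trace (A * (pm g : Matrix Ω Ω ℂ)) * (χ : G → ℂ) g⁻¹)) =
      if g = 1 then Matrix.trace A else 0 := by
    intro g
    have h2 := Cfsg.Agent.Lib.Helper4.col_orth_one (G := G) g⁻¹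
    have h3 : ∑ χ : IrrCharacter G, (χ : G → ℂ) 1 * ((Nat.card G : ℂ)⁻¹ *
      (Matrix.trace (A * (pm g : Matrix Ω Ω ℂ)) * (χ : G → ℂ) g⁻¹)) =
      (Nat.card G : ℂ)⁻¹ * Matrix.trace (A * (pm g : Matrix Ω Ω ℂ)) *
        ∑ χ : IrrCharacter G, (χ : G → ℂ) g⁻¹ * (χ : G → ℂ) 1 := by
      rw [Finset.mul_sum]
      refine Finset.sum_congr rfl fun χ _ => ?_
      ring
    rw [h3, h2]
    by_cases hg : g = 1
    · subst hg
      rw [if_pos inv_one, if_pos rfl, pm_one, Matrix.mul_one]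
      field_simp [Cfsg.Agent.Lib.Helper4.card_ne_zero_complex (G := G)]
    · rw [if_neg hg, if_neg (fun h => hg (inv_eq_one.mp h)), mul_zero]
  rw [Finset.sum_congr rfl fun g _ => h1 g]
  simp

section Trans

variable [MulAction.IsPretransitive G Ω]

omit [DecidableEq Ω] in
theorem sum_smul_eq (f : Ω → ℂ) (ω : Ω) :
    (Fintype.card Ω : ℂ) * ∑ g : G, f (g • ω) = (Fintype.card G : ℂ) * ∑ β, f β := by
  have h1 : ∀ ω' : Ω, ∑ g : G, f (g • ω') = ∑ g : G, f (g • ω) := by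
    intro ω'
    obtain ⟨h, rfl⟩ := MulAction.exists_smul_eq G ω ω'
    rw [← Equiv.sum_comp (Equiv.mulRight h) (fun g => f (g • ω))]
    simp [mul_smul]
  have h2 : ∑ ω' : Ω, ∑ g : G, f (g • ω') = (Fintype.card G : ℂ) * ∑ β, f β := by
    rw [Finset.sum_comm]
    have : ∀ g : G, ∑ ω' : Ω, f (g • ω') = ∑ β, f β :=
      fun g => Equiv.sum_comp (MulAction.toPerm g) f
    simp [this]
  rw [← h2, Finset.sum_congr rfl fun ω' _ => h1 ω']
  simp

omit [Fintype G] [DecidableEq Ω] in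
theorem InvMat.rowSum {A : Matrix Ω Ω ℂ} (hA : InvMat G A) (a ω : Ω) :
    ∑ β, A ω β = ∑ β, A a β := by
  obtain ⟨h, rfl⟩ := MulAction.exists_smul_eq G a ω
  rw [← Equiv.sum_comp (MulAction.toPerm h)]
  refine Finset.sum_congr rfl fun β _ => ?_
  exact hA h a β

/-- For a transitive group, `theta` at the principal character is the row sum. -/
theorem theta_one {A : Matrix Ω Ω ℂ} (hA : InvMat G A) (a : Ω) :
    theta (fun _ : G => (1 : ℂ)) A = ∑ β, A a β := by
  rw [theta_def]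
  simp only [mul_one, Matrix.trace, Matrix.diag_apply, mul_pm_apply]
  rw [Finset.sum_comm]
  have hΩ : (Fintype.card Ω : ℂ) ≠ 0 := by
    have : Nonempty Ω := ⟨a⟩
    exact_mod_cast Fintype.card_ne_zero
  have hG : (Nat.card G : ℂ) ≠ 0 := Cfsg.Agent.Lib.Helper4.card_ne_zero_complex
  have h1 : ∀ ω : Ω, ∑ g : G, A ω (g • ω) =
      (Fintype.card Ω : ℂ)⁻¹ * ((Fintype.card G : ℂ) * ∑ β, A a β) := by
    intro ω
    rw [← hA.rowSum a ω, ← sum_smul_eq (fun β => A ω β) ω, ← mul_assoc, inv_mul_cancel₀ hΩ,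
      one_mul]
  rw [Finset.sum_congr rfl fun ω _ => h1 ω, Finset.sum_const, Finset.card_univ,
    nsmul_eq_mul, Nat.card_eq_fintype_card]
  field_simp

end Trans

end Theta

end Cfsg.Agent.Lib.Helper17
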