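import Cfsg.Agent.Lib.Helper17.PermMod
import Cfsg.Prelude.Def_Perm

set_option autoImplicit false

namespace Cfsg.Agent.Lib.Helper17

open Module
open scoped ComplexConjugate

section Idem

variable {G : Type*} [Group G] [Fintype G] {Ω : Type*} [Fintype Ω] [DecidableEq Ω] [MulAction G Ω]

omit [Fintype G] in
theorem invMat_iff_comm {A : Matrix Ω Ω ℂ} :
    InvMat G A ↔ ∀ g : G, (pm g : Matrix Ω Ω ℂ) * A = A * (pm g : Matrix Ω Ω ℂ) := by
  constructor
  · intro hA g
    exact hA.comm g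
  · intro h g α β
    have h1 := congrFun (congrFun (h g) (g • α)) β
    rw [pm_mul_apply, mul_pm_apply, inv_smul_smul] at h1
    exact h1.symm

/-- The (multiple of the) central idempotent attached to a class function. -/
noncomputable def idem (χ : G → ℂ) : Matrix Ω Ω ℂ :=
  (χ 1 * (Nat.card G : ℂ)⁻¹) • ∑ g : G, χ g⁻¹ • (pm g : Matrix Ω Ω ℂ)

omit [Fintype Ω] in
theorem idem_def (χ : G → ℂ) : (idem χ : Matrix Ω Ω ℂ) =
    (χ 1 * (Nat.card G : ℂ)⁻¹) • ∑ g : G, χ g⁻¹ • (pm g : Matrix Ω Ω ℂ) := rfl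

omit [Fintype Ω] in
theorem sum_idem [Fintype (IrrCharacter G)] :
    ∑ χ : IrrCharacter G, (idem (χ : G → ℂ) : Matrix Ω Ω ℂ) = 1 := by
  classical
  simp only [idem_def, Finset.smul_sum, smul_smul]
  rw [Finset.sum_comm]
  have h1 : ∀ g : G, ∑ χ : IrrCharacter G,
      ((χ : G → ℂ) 1 * (Nat.card G : ℂ)⁻¹ * (χ : G → ℂ) g⁻¹) • (pm g : Matrix Ω Ω ℂ) =
      if g = 1 then (1 : Matrix Ω Ω ℂ) else 0 := by
    intro g
    rw [← Finset.sum_smul]
    have h2 := Cfsg.Agent.Lib.Helper4.col_orth_one (G := G) g⁻¹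
    have h3 : ∑ χ : IrrCharacter G, (χ : G → ℂ) 1 * (Nat.card G : ℂ)⁻¹ * (χ : G → ℂ) g⁻¹ =
        (Nat.card G : ℂ)⁻¹ * ∑ χ : IrrCharacter G, (χ : G → ℂ) g⁻¹ * (χ : G → ℂ) 1 := by
      rw [Finset.mul_sum]
      refine Finset.sum_congr rfl fun χ _ => ?_
      ring
    rw [h3, h2]
    by_cases hg : g = 1
    · subst hg
      rw [if_pos inv_one, if_pos rfl, pm_one,
        inv_mul_cancel₀ (Cfsg.Agent.Lib.Helper4.card_ne_zero_complex (G := G)), one_smul]
    · rw [if_neg hg, if_neg (fun h => hg (inv_eq_one.mp h)), mul_zero, zero_smul]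
  rw [Finset.sum_congr rfl fun g _ => h1 g]
  simp

theorem idem_apply {χ : G → ℂ} {n : ℕ} (D : G → Matrix (Fin n) (Fin n) ℂ)
    (hDχ : ∀ g, Matrix.trace (D g) = χ g) (α ω : Ω) :
    (idem χ : Matrix Ω Ω ℂ) α ω = χ 1 * ∑ i, (avg D (Matrix.single ω i 1)) α i := by
  simp only [idem_def, avg_apply, Matrix.smul_apply, Matrix.sum_apply, mul_single_mul_apply,
    smul_eq_mul]
  rw [mul_assoc]
  congr 1
  rw [← Finset.mul_sum]
  congr 1
  rw [Finset.sum_comm]
  refine Finset.sum_congr rfl fun g _ => ?_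
  rw [← Finset.mul_sum, ← hDχ g⁻¹, Matrix.trace, mul_comm]
  rfl

theorem finrank_tw_eq_classInner {χ : G → ℂ} (hχ : IsIrrCharacter G χ) {n : ℕ}
    (D : G → Matrix (Fin n) (Fin n) ℂ) (hD : ∀ g h, D (g * h) = D g * D h) (hD1 : D 1 = 1)
    (hDχ : ∀ g, Matrix.trace (D g) = χ g) :
    (finrank ℂ (tw D : Submodule ℂ (Matrix Ω (Fin n) ℂ)) : ℂ) = classInner (permChar G Ω) χ := by
  rw [finrank_tw D hD hD1, classInner_permChar hχ]
  simp only [hDχ]

omit [Fintype G] in
theorem mul_mem_tw {n : ℕ} (D : G → Matrix (Fin n) (Fin n) ℂ) {M : Matrix Ω Ω ℂ}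
    (hM : InvMat G M) {X : Matrix Ω (Fin n) ℂ} (hX : X ∈ tw D) : M * X ∈ tw D := by
  intro g
  rw [← Matrix.mul_assoc, hM.comm g, Matrix.mul_assoc, hX g, Matrix.mul_assoc]

/-- On a constituent of multiplicity at most one, an invariant matrix acts as a scalar. -/
theorem mul_idem_of_le_one {χ : G → ℂ} (hχ : IsIrrCharacter G χ)
    (h : classInner (permChar G Ω) χ = 0 ∨ classInner (permChar G Ω) χ = 1)
    {M : Matrix Ω Ω ℂ} (hM : InvMat G M) :
    ∃ c : ℂ, M * (idem χ : Matrix Ω Ω ℂ) = c • (idem χ : Matrix Ω Ω ℂ) := by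
  obtain ⟨n, D, hD, hD1, hDχ, -, -⟩ := exists_matrix_rep hχ
  have hfr := finrank_tw_eq_classInner (Ω := Ω) hχ D hD hD1 hDχ
  have key : ∃ c : ℂ, ∀ X : Matrix Ω (Fin n) ℂ, X ∈ tw D → M * X = c • X := by
    rcases h with h | h
    · rw [h] at hfr
      have h2 : finrank ℂ (tw D : Submodule ℂ (Matrix Ω (Fin n) ℂ)) = 0 := by exact_mod_cast hfr
      have h3 : (tw D : Submodule ℂ (Matrix Ω (Fin n) ℂ)) = ⊥ := Submodule.finrank_eq_zero.mp h2
      refine ⟨0, fun X hX => ?_⟩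
      rw [h3, Submodule.mem_bot] at hX
      rw [hX, Matrix.mul_zero, smul_zero]
    · rw [h] at hfr
      have h2 : finrank ℂ (tw D : Submodule ℂ (Matrix Ω (Fin n) ℂ)) = 1 := by exact_mod_cast hfr
      obtain ⟨X₀, hX₀, hspan⟩ := finrank_eq_one_iff'.mp h2
      obtain ⟨c₀, hc₀⟩ := hspan ⟨M * X₀.1, mul_mem_tw D hM X₀.2⟩
      have hc₀' : M * X₀.1 = c₀ • X₀.1 := (congrArg Subtype.val hc₀).symm
      refine ⟨c₀, fun X hX => ?_⟩
      obtain ⟨c, hc⟩ := hspan ⟨X, hX⟩
      have hc' : X = c • X₀.1 := (congrArg Subtype.val hc).symm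
      rw [hc', Matrix.mul_smul, hc₀', smul_comm]
  obtain ⟨c, hc⟩ := key
  refine ⟨c, ?_⟩
  ext α ω
  rw [Matrix.mul_apply, Matrix.smul_apply, idem_apply D hDχ, smul_eq_mul]
  simp only [idem_apply D hDχ]
  have h1 : ∀ i : Fin n, ∑ β, M α β * (avg D (Matrix.single ω i 1)) β i =
      c * (avg D (Matrix.single ω i 1)) α i := by
    intro i
    have := congrFun (congrFun (hc _ (avg_isTw D hD (Matrix.single ω i 1))) α) i
    rw [Matrix.mul_apply, Matrix.smul_apply, smul_eq_mul] at this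
    exact this
  calc ∑ β, M α β * (χ 1 * ∑ i, (avg D (Matrix.single ω i 1)) β i)
      = χ 1 * ∑ i, ∑ β, M α β * (avg D (Matrix.single ω i 1)) β i := by
        rw [Finset.sum_comm, Finset.mul_sum]
        refine Finset.sum_congr rfl fun β _ => ?_
        rw [Finset.mul_sum, Finset.mul_sum, Finset.mul_sum]
        refine Finset.sum_congr rfl fun i _ => ?_
        ring
    _ = c * (χ 1 * ∑ i, (avg D (Matrix.single ω i 1)) α i) := by
        rw [Finset.sum_congr rfl fun i _ => h1 i, ← Finset.mul_sum]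
        ring

/-- Multiplicity-free implies that the invariant matrices commute. -/
theorem comm_of_multFree
    (h : ∀ χ : G → ℂ, IsIrrCharacter G χ →
      classInner (permChar G Ω) χ = 0 ∨ classInner (permChar G Ω) χ = 1)
    {M N : Matrix Ω Ω ℂ} (hM : InvMat G M) (hN : InvMat G N) : M * N = N * M := by
  classical
  have := Cfsg.Agent.Lib.Helper4.irr_finite (G := G)
  let _ : Fintype (IrrCharacter G) := Fintype.ofFinite _
  have hM' : ∀ χ : IrrCharacter G, ∃ c : ℂ,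
      M * (idem (χ : G → ℂ) : Matrix Ω Ω ℂ) = c • (idem (χ : G → ℂ) : Matrix Ω Ω ℂ) :=
    fun χ => mul_idem_of_le_one χ.2 (h χ χ.2) hM
  have hN' : ∀ χ : IrrCharacter G, ∃ c : ℂ,
      N * (idem (χ : G → ℂ) : Matrix Ω Ω ℂ) = c • (idem (χ : G → ℂ) : Matrix Ω Ω ℂ) :=
    fun χ => mul_idem_of_le_one χ.2 (h χ χ.2) hN
  choose cM hcM using hM'
  choose cN hcN using hN'
  have eM : M = ∑ χ : IrrCharacter G, cM χ • (idem (χ : G → ℂ) : Matrix Ω Ω ℂ) := by
    conv_lhs => rw [← Matrix.mul_one M, ← sum_idem (G := G), Matrix.mul_sum]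
    exact Finset.sum_congr rfl fun χ _ => hcM χ
  have eN : N = ∑ χ : IrrCharacter G, cN χ • (idem (χ : G → ℂ) : Matrix Ω Ω ℂ) := by
    conv_lhs => rw [← Matrix.mul_one N, ← sum_idem (G := G), Matrix.mul_sum]
    exact Finset.sum_congr rfl fun χ _ => hcN χ
  have e1 : M * N = ∑ χ : IrrCharacter G, (cN χ * cM χ) • (idem (χ : G → ℂ) : Matrix Ω Ω ℂ) := by
    conv_lhs => rw [eN, Matrix.mul_sum]
    refine Finset.sum_congr rfl fun χ _ => ?_
    rw [Matrix.mul_smul, hcM χ, smul_smul]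
  have e2 : N * M = ∑ χ : IrrCharacter G, (cM χ * cN χ) • (idem (χ : G → ℂ) : Matrix Ω Ω ℂ) := by
    conv_lhs => rw [eM, Matrix.mul_sum]
    refine Finset.sum_congr rfl fun χ _ => ?_
    rw [Matrix.mul_smul, hcN χ, smul_smul]
  rw [e1, e2]
  exact Finset.sum_congr rfl fun χ _ => by rw [mul_comm]

/-- The reverse averaging operator `Y ↦ |G|⁻¹ ∑ g, D(g) Y P(g⁻¹)`. -/
noncomputable def ravg {n : ℕ} (D : G → Matrix (Fin n) (Fin n) ℂ) (Y : Matrix (Fin n) Ω ℂ) :
    Matrix (Fin n) Ω ℂ :=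
  (Nat.card G : ℂ)⁻¹ • ∑ g : G, D g * Y * (pm g⁻¹ : Matrix Ω Ω ℂ)

theorem ravg_comm {n : ℕ} (D : G → Matrix (Fin n) (Fin n) ℂ)
    (hD : ∀ g h, D (g * h) = D g * D h) (Y : Matrix (Fin n) Ω ℂ) (h : G) :
    D h * ravg D Y = ravg D Y * (pm h : Matrix Ω Ω ℂ) := by
  rw [ravg, Matrix.mul_smul, Matrix.smul_mul, Matrix.mul_sum, Matrix.sum_mul]
  congr 1
  conv_rhs => rw [← Equiv.sum_comp (Equiv.mulLeft h)]
  refine Finset.sum_congr rfl fun g _ => ?_
  simp only [Equiv.coe_mulLeft]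
  rw [hD, Matrix.mul_assoc, Matrix.mul_assoc, Matrix.mul_assoc, Matrix.mul_assoc, ← pm_mul,
    mul_inv_rev, inv_mul_cancel_right]

theorem trace_ravg_mul {n : ℕ} (D : G → Matrix (Fin n) (Fin n) ℂ)
    (hD : ∀ g h, D (g * h) = D g * D h) (hD1 : D 1 = 1) (Y : Matrix (Fin n) Ω ℂ)
    {X : Matrix Ω (Fin n) ℂ} (hX : X ∈ tw D) :
    Matrix.trace (ravg D Y * X) = Matrix.trace (Y * X) := by
  rw [ravg, Matrix.smul_mul, Matrix.trace_smul, Matrix.sum_mul, Matrix.trace_sum]
  have h1 : ∀ g : G, Matrix.trace (D g * Y * (pm g⁻¹ : Matrix Ω Ω ℂ) * X) = Matrix.trace (Y * X) := by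
    intro g
    rw [Matrix.mul_assoc, hX g⁻¹, Matrix.mul_assoc, Matrix.trace_mul_comm, Matrix.mul_assoc,
      Matrix.mul_assoc, ← hD, inv_mul_cancel, hD1, Matrix.mul_one]
  rw [Finset.sum_congr rfl fun g _ => h1 g, Finset.sum_const, Finset.card_univ,
    Nat.card_eq_fintype_card, nsmul_eq_mul, smul_eq_mul, ← mul_assoc, inv_mul_cancel₀, one_mul]
  exact_mod_cast Fintype.card_ne_zero

/-- If the invariant matrices commute, the permutation character is multiplicity-free. -/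
theorem multFree_of_comm
    (hcomm : ∀ M N : Matrix Ω Ω ℂ, InvMat G M → InvMat G N → M * N = N * M)
    {χ : G → ℂ} (hχ : IsIrrCharacter G χ) :
    classInner (permChar G Ω) χ = 0 ∨ classInner (permChar G Ω) χ = 1 := by
  obtain ⟨n, D, hD, hD1, hDχ, hS, hn⟩ := exists_matrix_rep hχ
  rw [← finrank_tw_eq_classInner (Ω := Ω) hχ D hD hD1 hDχ]
  have hle : finrank ℂ (tw D : Submodule ℂ (Matrix Ω (Fin n) ℂ)) ≤ 1 := by
    by_cases hbot : (tw D : Submodule ℂ (Matrix Ω (Fin n) ℂ)) = ⊥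
    · rw [hbot, finrank_bot]
      exact Nat.zero_le 1
    · obtain ⟨X₁, hX₁, hX₁0⟩ := (Submodule.ne_bot_iff _).mp hbot
      obtain ⟨ω, i, hωi⟩ : ∃ ω i, X₁ ω i ≠ 0 := by
        by_contra hcon
        push Not at hcon
        exact hX₁0 (Matrix.ext hcon)
      set Y : Matrix (Fin n) Ω ℂ := ravg D (Matrix.single i ω 1) with hY
      have hYD : ∀ h : G, D h * Y = Y * (pm h : Matrix Ω Ω ℂ) := ravg_comm D hD _
      -- `Y * X` is scalar for every intertwiner
      have hsc : ∀ X : Matrix Ω (Fin n) ℂ, X ∈ tw D → ∃ c : ℂ, Y * X = c • 1 := by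
        intro X hX
        apply hS
        intro g
        rw [Matrix.mul_assoc, ← hX g, ← Matrix.mul_assoc, ← hYD g, Matrix.mul_assoc]
      obtain ⟨c₁, hc₁⟩ := hsc X₁ hX₁
      have hc₁0 : c₁ ≠ 0 := by
        intro h0
        have h1 := trace_ravg_mul D hD hD1 (Matrix.single i ω 1) hX₁
        rw [← hY, hc₁, h0, zero_smul, Matrix.trace_zero] at h1
        have h2 : Matrix.trace (Matrix.single i ω (1 : ℂ) * X₁) = X₁ ω i := by
          rw [Matrix.trace_mul_comm, Matrix.trace, Finset.sum_eq_single ω]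
          · rw [Matrix.diag_apply, Matrix.mul_apply, Finset.sum_eq_single i]
            · simp
            · intro b _ hb
              simp [hb.symm]
            · intro h; exact absurd (Finset.mem_univ _) h
          · intro b _ hb
            rw [Matrix.diag_apply, Matrix.mul_apply]
            apply Finset.sum_eq_zero
            intro j _
            simp [hb.symm]
          · intro h; exact absurd (Finset.mem_univ _) h
        rw [h2] at h1
        exact hωi h1.symm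
      have hS₁ : InvMat G (X₁ * Y) := by
        rw [invMat_iff_comm]
        intro g
        rw [← Matrix.mul_assoc, hX₁ g, Matrix.mul_assoc, hYD g, Matrix.mul_assoc]
      have hall : ∀ w : (tw D : Submodule ℂ (Matrix Ω (Fin n) ℂ)),
          ∃ c : ℂ, c • (⟨X₁, hX₁⟩ : (tw D : Submodule ℂ (Matrix Ω (Fin n) ℂ))) = w := by
        intro w
        obtain ⟨c, hc⟩ := hsc w.1 w.2
        set X' : Matrix Ω (Fin n) ℂ := w.1 - (c / c₁) • X₁ with hX'
        have hX'tw : X' ∈ tw D := Submodule.sub_mem _ w.2 (Submodule.smul_mem _ _ hX₁)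
        have hYX' : Y * X' = 0 := by
          rw [hX', Matrix.mul_sub, Matrix.mul_smul, hc, hc₁, smul_smul, div_mul_cancel₀ _ hc₁0,
            sub_self]
        have hT : InvMat G (X' * Y) := by
          rw [invMat_iff_comm]
          intro g
          rw [← Matrix.mul_assoc, hX'tw g, Matrix.mul_assoc, hYD g, Matrix.mul_assoc]
        have h1 := hcomm _ _ hS₁ hT
        have h2 : X₁ * Y * (X' * Y) = 0 := by
          rw [Matrix.mul_assoc, ← Matrix.mul_assoc Y, hYX', Matrix.zero_mul, Matrix.mul_zero]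
        have h3 : X' * Y * (X₁ * Y) = c₁ • (X' * Y) := by
          rw [Matrix.mul_assoc, ← Matrix.mul_assoc Y, hc₁, Matrix.smul_mul, Matrix.one_mul,
            Matrix.mul_smul]
        rw [h2, h3] at h1
        have h4 : X' * Y = 0 := (smul_eq_zero.mp h1.symm).resolve_left hc₁0
        have h5 : X' * (Y * X₁) = 0 := by
          rw [← Matrix.mul_assoc, h4, Matrix.zero_mul]
        rw [hc₁, Matrix.mul_smul, Matrix.mul_one] at h5
        have h6 : X' = 0 := (smul_eq_zero.mp h5).resolve_left hc₁0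
        refine ⟨c / c₁, ?_⟩
        apply Subtype.ext
        show (c / c₁) • X₁ = w.1
        rw [hX', sub_eq_zero] at h6
        exact h6.symm
      exact finrank_le_one _ hall
  rcases Nat.le_one_iff_eq_zero_or_eq_one.mp hle with h | h
  · left; rw [h]; simp
  · right; rw [h]; simp

omit [Fintype G] in
theorem toMatrix'_permRep (g : G) : LinearMap.toMatrix' (Cfsg.permRep ℂ G Ω g) = pm g := by
  ext x y
  rw [LinearMap.toMatrix'_apply, pm_apply]
  show (Pi.single y (1 : ℂ) : Ω → ℂ) (g⁻¹ • x) = _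
  rw [Pi.single_apply]
  congr 1
  rw [eq_iff_iff]
  constructor <;> intro h
  · rw [← h, smul_inv_smul]
  · rw [h, inv_smul_smul]

omit [Fintype G] in
theorem mem_invariants_iff (S : (Ω → ℂ) →ₗ[ℂ] (Ω → ℂ)) :
    S ∈ ((Cfsg.permRep ℂ G Ω).linHom (Cfsg.permRep ℂ G Ω)).invariants ↔
      InvMat G (LinearMap.toMatrix' S) := by
  rw [invMat_iff_comm, Representation.mem_invariants]
  constructor
  · intro h g
    have h1 := congrArg LinearMap.toMatrix' (h g)
    rw [Representation.linHom_apply, LinearMap.toMatrix'_comp, LinearMap.toMatrix'_comp,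
      toMatrix'_permRep, toMatrix'_permRep] at h1
    conv_rhs => rw [← h1]
    rw [Matrix.mul_assoc, Matrix.mul_assoc, ← pm_mul, inv_mul_cancel, pm_one, Matrix.mul_one]
  · intro h g
    apply LinearMap.toMatrix'.injective
    rw [Representation.linHom_apply, LinearMap.toMatrix'_comp, LinearMap.toMatrix'_comp,
      toMatrix'_permRep, toMatrix'_permRep, ← Matrix.mul_assoc, h g, Matrix.mul_assoc, ← pm_mul,
      mul_inv_cancel, pm_one, Matrix.mul_one]

end Idem

end Cfsg.Agent.Lib.Helper17
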