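import Cfsg.Agent.Lib.Helper17.PermMod2

set_option autoImplicit false

namespace Cfsg.Agent.Lib.Helper17

open Module
open scoped ComplexConjugate

section Rank

variable {G : Type*} [Group G] [Fintype G] {Ω : Type*} [Fintype Ω] [MulAction G Ω]

omit [Fintype G] in
theorem permChar_isClassFunction : IsClassFunction G (permChar G Ω) := by
  classical
  intro g h
  show (Nat.card (MulAction.fixedBy Ω (h * g * h⁻¹)) : ℂ) = (Nat.card (MulAction.fixedBy Ω g) : ℂ)
  rw [← trace_pm, ← trace_pm, pm_mul, pm_mul, Matrix.trace_mul_comm, ← Matrix.mul_assoc, ← pm_mul,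
    inv_mul_cancel, pm_one, Matrix.one_mul]

theorem exists_mult (χ : IrrCharacter G) :
    ∃ m : ℕ, classInner (permChar G Ω) (χ : G → ℂ) = m := by
  classical
  obtain ⟨n, D, hD, hD1, hDχ, -, -⟩ := exists_matrix_rep χ.2
  exact ⟨_, (finrank_tw_eq_classInner (Ω := Ω) χ.2 D hD hD1 hDχ).symm⟩

/-- Multiplicity of an irreducible character in the permutation character. -/
noncomputable def mult (G : Type*) [Group G] [Fintype G] (Ω : Type*) [Fintype Ω] [MulAction G Ω]
    (χ : IrrCharacter G) : ℕ := Classical.choose (exists_mult (Ω := Ω) χ)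

theorem mult_spec (χ : IrrCharacter G) :
    classInner (permChar G Ω) (χ : G → ℂ) = (mult G Ω χ : ℂ) :=
  Classical.choose_spec (exists_mult (Ω := Ω) χ)

/-- Degree of an irreducible character as a natural number. -/
noncomputable def deg (χ : IrrCharacter G) : ℕ :=
  Classical.choose (Cfsg.Agent.Lib.Helper4.irr_one_nat χ)

omit [Fintype G] in
theorem deg_pos (χ : IrrCharacter G) : 0 < deg χ :=
  (Classical.choose_spec (Cfsg.Agent.Lib.Helper4.irr_one_nat χ)).1

omit [Fintype G] in
theorem deg_spec (χ : IrrCharacter G) : (χ : G → ℂ) 1 = (deg χ : ℂ) :=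
  (Classical.choose_spec (Cfsg.Agent.Lib.Helper4.irr_one_nat χ)).2

variable [Fintype (IrrCharacter G)]

theorem permChar_expansion :
    permChar G Ω = ∑ χ : IrrCharacter G, (mult G Ω χ : ℂ) • (χ : G → ℂ) := by
  have h := Cfsg.Agent.Lib.Helper4.classFunction_expansion (permChar G Ω)
    (permChar_isClassFunction (G := G) (Ω := Ω))
  simp only [mult_spec] at h
  exact h

theorem classInner_permChar_self :
    classInner (permChar G Ω) (permChar G Ω) = ∑ χ : IrrCharacter G, (mult G Ω χ : ℂ) ^ 2 := by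
  conv_lhs => rw [permChar_expansion (G := G) (Ω := Ω)]
  rw [Cfsg.Agent.Lib.Helper4.classInner_sum_sum_irr]
  refine Finset.sum_congr rfl fun χ _ => ?_
  rw [map_natCast, sq]

/-- `|Ω| = ∑ m_χ χ(1)`. -/
theorem card_eq_sum_mult_deg :
    Fintype.card Ω = ∑ χ : IrrCharacter G, mult G Ω χ * deg χ := by
  classical
  have h := sum_irr_theta (G := G) (1 : Matrix Ω Ω ℂ)
  have h1 : ∀ χ : IrrCharacter G, theta (χ : G → ℂ) (1 : Matrix Ω Ω ℂ) = (mult G Ω χ : ℂ) := by
    intro χ
    rw [← mult_spec, classInner_permChar χ.2, theta_def]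
    simp only [Matrix.one_mul]
  simp only [h1, deg_spec, Matrix.trace_one] at h
  have h2 : ((∑ χ : IrrCharacter G, mult G Ω χ * deg χ : ℕ) : ℂ) = (Fintype.card Ω : ℂ) := by
    rw [← h, Nat.cast_sum]
    refine Finset.sum_congr rfl fun χ _ => ?_
    rw [Nat.cast_mul, mul_comm]
  exact (Nat.cast_injective h2).symm

omit [Fintype (IrrCharacter G)] in
/-- Burnside's lemma on `Ω × Ω`. -/
theorem classInner_permChar_self_eq_card :
    classInner (permChar G Ω) (permChar G Ω) =
      (Nat.card (MulAction.orbitRel.Quotient G (Ω × Ω)) : ℂ) := by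
  classical
  have hB := MulAction.sum_card_fixedBy_eq_card_orbits_mul_card_group G (Ω × Ω)
  have h1 : ∀ g : G, Fintype.card (MulAction.fixedBy (Ω × Ω) g) =
      Nat.card (MulAction.fixedBy Ω g) * Nat.card (MulAction.fixedBy Ω g) := by
    intro g
    have h2 : MulAction.fixedBy (Ω × Ω) g = MulAction.fixedBy Ω g ×ˢ MulAction.fixedBy Ω g := by
      ext ⟨x, y⟩
      simp [MulAction.mem_fixedBy, Prod.ext_iff]
    rw [← Nat.card_eq_fintype_card, Nat.card_coe_set_eq, h2, Set.ncard_prod, Nat.card_coe_set_eq]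
  rw [classInner]
  have h3 : ∑ g : G, permChar G Ω g * conj (permChar G Ω g) =
      ((∑ g : G, Fintype.card (MulAction.fixedBy (Ω × Ω) g) : ℕ) : ℂ) := by
    rw [Nat.cast_sum]
    refine Finset.sum_congr rfl fun g _ => ?_
    rw [h1 g, Nat.cast_mul]
    show (Nat.card (MulAction.fixedBy Ω g) : ℂ) * conj (Nat.card (MulAction.fixedBy Ω g) : ℂ) = _
    rw [map_natCast]
  rw [h3, hB, Nat.cast_mul, ← Nat.card_eq_fintype_card, ← Nat.card_eq_fintype_card, mul_comm,
    mul_assoc, mul_inv_cancel₀ (Cfsg.Agent.Lib.Helper4.card_ne_zero_complex (G := G)), mul_one]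

omit [Fintype G] [Fintype Ω] [Fintype (IrrCharacter G)] in
/-- Orbits of `G` on `Ω × Ω` correspond to orbits of a point stabiliser on `Ω`. -/
theorem card_orbits_prod [MulAction.IsPretransitive G Ω] (a : Ω) :
    Nat.card (MulAction.orbitRel.Quotient G (Ω × Ω)) =
      Nat.card (MulAction.orbitRel.Quotient (MulAction.stabilizer G a) Ω) := by
  symm
  let φ : MulAction.orbitRel.Quotient (MulAction.stabilizer G a) Ω →
      MulAction.orbitRel.Quotient G (Ω × Ω) :=
    Quotient.map' (fun b => (a, b)) (by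
      intro b b' h
      rw [MulAction.orbitRel_apply] at h ⊢
      obtain ⟨s, hs⟩ := h
      refine ⟨s.1, ?_⟩
      show (s.1 • a, s.1 • b') = (a, b)
      rw [show s.1 • a = a from s.2]
      exact congrArg (Prod.mk a) hs)
  apply Nat.card_eq_of_bijective φ
  constructor
  · intro q q'
    induction q using Quotient.inductionOn' with | _ b => ?_
    induction q' using Quotient.inductionOn' with | _ b' => ?_
    intro h
    have h1 : (Quotient.mk'' (a, b) : MulAction.orbitRel.Quotient G (Ω × Ω)) =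
        Quotient.mk'' (a, b') := h
    rw [Quotient.eq'', MulAction.orbitRel_apply] at h1
    obtain ⟨g, hg⟩ := h1
    have hg1 : g • a = a := congrArg Prod.fst hg
    have hg2 : g • b' = b := congrArg Prod.snd hg
    apply Quotient.sound'
    rw [MulAction.orbitRel_apply]
    exact ⟨⟨g, hg1⟩, hg2⟩
  · intro q
    induction q using Quotient.inductionOn' with | _ p => ?_
    obtain ⟨x, y⟩ := p
    obtain ⟨g, rfl⟩ := MulAction.exists_smul_eq G a x
    refine ⟨Quotient.mk'' (g⁻¹ • y), ?_⟩
    show (Quotient.mk'' (a, g⁻¹ • y) : MulAction.orbitRel.Quotient G (Ω × Ω)) = _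
    apply Quotient.sound'
    rw [MulAction.orbitRel_apply]
    refine ⟨g⁻¹, ?_⟩
    show (g⁻¹ • g • a, g⁻¹ • y) = (a, g⁻¹ • y)
    rw [inv_smul_smul]

/-- The rank is the sum of the squares of the multiplicities. -/
theorem rank_eq_sum_sq [MulAction.IsPretransitive G Ω] (a : Ω) :
    Nat.card (MulAction.orbitRel.Quotient (MulAction.stabilizer G a) Ω) =
      ∑ χ : IrrCharacter G, mult G Ω χ ^ 2 := by
  have h1 := classInner_permChar_self (G := G) (Ω := Ω)
  rw [classInner_permChar_self_eq_card, card_orbits_prod a] at h1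
  have h2 : ((Nat.card (MulAction.orbitRel.Quotient (MulAction.stabilizer G a) Ω) : ℕ) : ℂ) =
      ((∑ χ : IrrCharacter G, mult G Ω χ ^ 2 : ℕ) : ℂ) := by
    rw [h1, Nat.cast_sum]
    exact Finset.sum_congr rfl fun χ _ => by rw [Nat.cast_pow]
  exact Nat.cast_injective h2

omit [Fintype (IrrCharacter G)] in
/-- For a transitive group the principal character has multiplicity one. -/
theorem mult_triv [MulAction.IsPretransitive G Ω] (a : Ω) :
    mult G Ω (Cfsg.Agent.Lib.Helper4.trivIrr : IrrCharacter G) = 1 := by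
  classical
  have h1 := mult_spec (G := G) (Ω := Ω) Cfsg.Agent.Lib.Helper4.trivIrr
  rw [classInner_permChar (Cfsg.Agent.Lib.Helper4.trivIrr : IrrCharacter G).2] at h1
  have h2 : theta (fun _ : G => (1 : ℂ)) (1 : Matrix Ω Ω ℂ) = (mult G Ω
      (Cfsg.Agent.Lib.Helper4.trivIrr : IrrCharacter G) : ℂ) := by
    rw [← h1, theta_def]
    simp only [Matrix.one_mul]
    rfl
  have hinv : InvMat G (1 : Matrix Ω Ω ℂ) := by
    intro g α β
    simp [Matrix.one_apply]
  rw [theta_one hinv a] at h2
  have h3 : ∑ β, (1 : Matrix Ω Ω ℂ) a β = 1 := by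
    simp [Matrix.one_apply]
  rw [h3] at h2
  exact_mod_cast h2.symm

omit [Fintype G] [Fintype (IrrCharacter G)] in
/-- If all non-trivial suborbits have size at least `f`, then `(r - 1) f + 1 ≤ |Ω|`, and in
case of equality all non-trivial suborbits have size exactly `f`. -/
theorem suborbit_bound (a : Ω) (f : ℕ)
    (hf : ∀ b : Ω, b ≠ a → f ≤ Nat.card (MulAction.orbit (MulAction.stabilizer G a) b)) :
    (Nat.card (MulAction.orbitRel.Quotient (MulAction.stabilizer G a) Ω) - 1) * f + 1 ≤
        Fintype.card Ω ∧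
      (Fintype.card Ω ≤
          (Nat.card (MulAction.orbitRel.Quotient (MulAction.stabilizer G a) Ω) - 1) * f + 1 →
        ∀ b : Ω, b ≠ a → Nat.card (MulAction.orbit (MulAction.stabilizer G a) b) = f) := by
  classical
  set H := MulAction.stabilizer G a with hH
  have hcard : Fintype.card Ω = ∑ q : MulAction.orbitRel.Quotient H Ω, Nat.card q.orbit := by
    rw [← Nat.card_eq_fintype_card, Nat.card_congr (MulAction.selfEquivSigmaOrbits' H Ω),
      Nat.card_sigma]
  set q₀ : MulAction.orbitRel.Quotient H Ω := Quotient.mk'' a with hq₀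
  have hq₀card : Nat.card q₀.orbit = 1 := by
    rw [hq₀, MulAction.orbitRel.Quotient.orbit_mk]
    have : MulAction.orbit H a = {a} := by
      ext x
      rw [MulAction.mem_orbit_iff, Set.mem_singleton_iff]
      constructor
      · rintro ⟨s, rfl⟩
        exact s.2
      · rintro rfl
        exact ⟨1, one_smul _ _⟩
    rw [this, Nat.card_coe_set_eq, Set.ncard_singleton]
  have hne : ∀ b : Ω, b ≠ a → (Quotient.mk'' b : MulAction.orbitRel.Quotient H Ω) ≠ q₀ := by
    intro b hb h
    rw [hq₀, Quotient.eq'', MulAction.orbitRel_apply] at h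
    obtain ⟨s, hs⟩ := h
    exact hb (hs.symm.trans s.2)
  have hge : ∀ q ∈ Finset.univ.erase q₀, f ≤ Nat.card q.orbit := by
    intro q hq
    induction q using Quotient.inductionOn' with | _ b => ?_
    have hb : b ≠ a := by
      rintro rfl
      exact (Finset.mem_erase.mp hq).1 rfl
    rw [MulAction.orbitRel.Quotient.orbit_mk]
    exact hf b hb
  rw [← Finset.add_sum_erase Finset.univ _ (Finset.mem_univ q₀), hq₀card] at hcard
  have hcnt : (Finset.univ.erase q₀).card =
      Nat.card (MulAction.orbitRel.Quotient H Ω) - 1 := by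
    rw [Finset.card_erase_of_mem (Finset.mem_univ q₀), Finset.card_univ, Nat.card_eq_fintype_card]
  have hsum := Finset.card_nsmul_le_sum (Finset.univ.erase q₀) (fun q => Nat.card q.orbit) f hge
  rw [hcnt, smul_eq_mul] at hsum
  refine ⟨by omega, ?_⟩
  intro hle b hb
  have h1 : ∑ q ∈ Finset.univ.erase q₀, f = ∑ q ∈ Finset.univ.erase q₀, Nat.card q.orbit := by
    rw [Finset.sum_const, hcnt, smul_eq_mul]
    omega
  have h2 := (Finset.sum_eq_sum_iff_of_le hge).mp h1
  have h3 := h2 (Quotient.mk'' b) (Finset.mem_erase.mpr ⟨hne b hb, Finset.mem_univ _⟩)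
  rw [MulAction.orbitRel.Quotient.orbit_mk] at h3
  exact h3.symm

end Rank

end Cfsg.Agent.Lib.Helper17
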