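import Mathlib
import Cfsg.Agent.Lib.Helper52.SP8EBDefs

/-! SP8-EB piece QGEN (insurance copy, helper17): for `|F| = 3` the quaternion set of `2 × 2`
matrices is normally generated (under `SL₂`) by the commutators of one element of order 4. -/

set_option autoImplicit false
set_option linter.unusedTactic false
set_option linter.unreachableTactic false
set_option linter.unusedSectionVars false
set_option linter.unusedVariables false

namespace Cfsg.Agent.Lib.Helper17.QGENAux

open Matrix

variable {F : Type*} [Field F]

theorem tri [Fintype F] (hq3 : Fintype.card F = 3) (x : F) : x = 0 ∨ x = 1 ∨ x = -1 := by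
  have h := FiniteField.pow_card x
  rw [hq3] at h
  have h' : x * ((x - 1) * (x + 1)) = 0 := by linear_combination h
  rcases mul_eq_zero.1 h' with h0 | h0
  · exact Or.inl h0
  · rcases mul_eq_zero.1 h0 with h1 | h1
    · exact Or.inr (Or.inl (by linear_combination h1))
    · exact Or.inr (Or.inr (by linear_combination h1))

theorem three [Fintype F] (hq3 : Fintype.card F = 3) : (3 : F) = 0 := by
  have h := FiniteField.cast_card_eq_zero F
  rw [hq3] at h
  exact_mod_cast h

theorem m_eq {a b c d a' b' c' d' : F} (h1 : a = a') (h2 : b = b') (h3 : c = c') (h4 : d = d') :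
    (!![a, b; c, d] : Matrix (Fin 2) (Fin 2) F) = !![a', b'; c', d'] := by
  subst h1 h2 h3 h4; rfl

theorem neg_one_eq : (-1 : Matrix (Fin 2) (Fin 2) F) = !![-1, 0; 0, -1] := by
  ext i j; fin_cases i <;> fin_cases j <;> simp

/-- one of the eight special matrices -/
def c0 (F : Type*) [Field F] : Matrix (Fin 2) (Fin 2) F := !![0, 1; -1, 0]

/-- one of the eight special matrices -/
def c1 (F : Type*) [Field F] : Matrix (Fin 2) (Fin 2) F := !![-1, -1; -1, 1]

/-- one of the eight special matrices -/
def c2 (F : Type*) [Field F] : Matrix (Fin 2) (Fin 2) F := !![1, -1; -1, -1]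

/-- one of the eight special matrices -/
def c3 (F : Type*) [Field F] : Matrix (Fin 2) (Fin 2) F := !![0, -1; 1, 0]

/-- one of the eight special matrices -/
def c4 (F : Type*) [Field F] : Matrix (Fin 2) (Fin 2) F := !![1, 1; 1, -1]

/-- one of the eight special matrices -/
def c5 (F : Type*) [Field F] : Matrix (Fin 2) (Fin 2) F := !![-1, 1; 1, 1]

/-- one of the eight special matrices -/
def qs (F : Type*) [Field F] : Matrix (Fin 2) (Fin 2) F := !![1, 1; 0, 1]

/-- one of the eight special matrices -/
def qt (F : Type*) [Field F] : Matrix (Fin 2) (Fin 2) F := !![1, -1; 0, 1]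

theorem qs_c0 (h3 : (3 : F) = 0) : qs F * c0 F * qt F = c1 F := by
  unfold c0 c1 qs qt
  rw [Matrix.mul_fin_two, Matrix.mul_fin_two]
  apply m_eq <;> first | ring1 | linear_combination h3 | linear_combination -h3 | linear_combination 2 * h3 | linear_combination -2 * h3 | linear_combination 3 * h3 | linear_combination -3 * h3

theorem qs_c1 (h3 : (3 : F) = 0) : qs F * c1 F * qt F = c2 F := by
  unfold c1 c2 qs qt
  rw [Matrix.mul_fin_two, Matrix.mul_fin_two]
  apply m_eq <;> first | ring1 | linear_combination h3 | linear_combination -h3 | linear_combination 2 * h3 | linear_combination -2 * h3 | linear_combination 3 * h3 | linear_combination -3 * h3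

theorem qs_c2 (h3 : (3 : F) = 0) : qs F * c2 F * qt F = c0 F := by
  unfold c0 c2 qs qt
  rw [Matrix.mul_fin_two, Matrix.mul_fin_two]
  apply m_eq <;> first | ring1 | linear_combination h3 | linear_combination -h3 | linear_combination 2 * h3 | linear_combination -2 * h3 | linear_combination 3 * h3 | linear_combination -3 * h3

theorem qs_c3 (h3 : (3 : F) = 0) : qs F * c3 F * qt F = c4 F := by
  unfold c3 c4 qs qt
  rw [Matrix.mul_fin_two, Matrix.mul_fin_two]
  apply m_eq <;> first | ring1 | linear_combination h3 | linear_combination -h3 | linear_combination 2 * h3 | linear_combination -2 * h3 | linear_combination 3 * h3 | linear_combination -3 * h3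

theorem qs_c4 (h3 : (3 : F) = 0) : qs F * c4 F * qt F = c5 F := by
  unfold c4 c5 qs qt
  rw [Matrix.mul_fin_two, Matrix.mul_fin_two]
  apply m_eq <;> first | ring1 | linear_combination h3 | linear_combination -h3 | linear_combination 2 * h3 | linear_combination -2 * h3 | linear_combination 3 * h3 | linear_combination -3 * h3

theorem qs_c5 (h3 : (3 : F) = 0) : qs F * c5 F * qt F = c3 F := by
  unfold c3 c5 qs qt
  rw [Matrix.mul_fin_two, Matrix.mul_fin_two]
  apply m_eq <;> first | ring1 | linear_combination h3 | linear_combination -h3 | linear_combination 2 * h3 | linear_combination -2 * h3 | linear_combination 3 * h3 | linear_combination -3 * h3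

theorem qs_qt (h3 : (3 : F) = 0) : qs F * qt F = 1 := by
  unfold qs qt
  rw [Matrix.mul_fin_two, Matrix.one_fin_two]
  apply m_eq <;> first | ring1 | linear_combination h3 | linear_combination -h3 | linear_combination 2 * h3 | linear_combination -2 * h3 | linear_combination 3 * h3 | linear_combination -3 * h3

theorem c0_inv (h3 : (3 : F) = 0) : c0 F * c3 F = 1 := by
  unfold c0 c3
  rw [Matrix.mul_fin_two, Matrix.one_fin_two]
  apply m_eq <;> first | ring1 | linear_combination h3 | linear_combination -h3 | linear_combination 2 * h3 | linear_combination -2 * h3 | linear_combination 3 * h3 | linear_combination -3 * h3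

theorem c1_inv (h3 : (3 : F) = 0) : c1 F * c4 F = 1 := by
  unfold c1 c4
  rw [Matrix.mul_fin_two, Matrix.one_fin_two]
  apply m_eq <;> first | ring1 | linear_combination h3 | linear_combination -h3 | linear_combination 2 * h3 | linear_combination -2 * h3 | linear_combination 3 * h3 | linear_combination -3 * h3

theorem c2_inv (h3 : (3 : F) = 0) : c2 F * c5 F = 1 := by
  unfold c2 c5
  rw [Matrix.mul_fin_two, Matrix.one_fin_two]
  apply m_eq <;> first | ring1 | linear_combination h3 | linear_combination -h3 | linear_combination 2 * h3 | linear_combination -2 * h3 | linear_combination 3 * h3 | linear_combination -3 * h3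

theorem c3_inv (h3 : (3 : F) = 0) : c3 F * c0 F = 1 := by
  unfold c0 c3
  rw [Matrix.mul_fin_two, Matrix.one_fin_two]
  apply m_eq <;> first | ring1 | linear_combination h3 | linear_combination -h3 | linear_combination 2 * h3 | linear_combination -2 * h3 | linear_combination 3 * h3 | linear_combination -3 * h3

theorem c4_inv (h3 : (3 : F) = 0) : c4 F * c1 F = 1 := by
  unfold c1 c4
  rw [Matrix.mul_fin_two, Matrix.one_fin_two]
  apply m_eq <;> first | ring1 | linear_combination h3 | linear_combination -h3 | linear_combination 2 * h3 | linear_combination -2 * h3 | linear_combination 3 * h3 | linear_combination -3 * h3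

theorem c5_inv (h3 : (3 : F) = 0) : c5 F * c2 F = 1 := by
  unfold c2 c5
  rw [Matrix.mul_fin_two, Matrix.one_fin_two]
  apply m_eq <;> first | ring1 | linear_combination h3 | linear_combination -h3 | linear_combination 2 * h3 | linear_combination -2 * h3 | linear_combination 3 * h3 | linear_combination -3 * h3

theorem c3_c1 (h3 : (3 : F) = 0) : c3 F * c1 F = c2 F := by
  unfold c1 c2 c3
  rw [Matrix.mul_fin_two]
  apply m_eq <;> first | ring1 | linear_combination h3 | linear_combination -h3 | linear_combination 2 * h3 | linear_combination -2 * h3 | linear_combination 3 * h3 | linear_combination -3 * h3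

theorem c4_c2 (h3 : (3 : F) = 0) : c4 F * c2 F = c0 F := by
  unfold c0 c2 c4
  rw [Matrix.mul_fin_two]
  apply m_eq <;> first | ring1 | linear_combination h3 | linear_combination -h3 | linear_combination 2 * h3 | linear_combination -2 * h3 | linear_combination 3 * h3 | linear_combination -3 * h3

theorem c5_c0 (h3 : (3 : F) = 0) : c5 F * c0 F = c1 F := by
  unfold c0 c1 c5
  rw [Matrix.mul_fin_two]
  apply m_eq <;> first | ring1 | linear_combination h3 | linear_combination -h3 | linear_combination 2 * h3 | linear_combination -2 * h3 | linear_combination 3 * h3 | linear_combination -3 * h3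

theorem c0_c4 (h3 : (3 : F) = 0) : c0 F * c4 F = c2 F := by
  unfold c0 c2 c4
  rw [Matrix.mul_fin_two]
  apply m_eq <;> first | ring1 | linear_combination h3 | linear_combination -h3 | linear_combination 2 * h3 | linear_combination -2 * h3 | linear_combination 3 * h3 | linear_combination -3 * h3

theorem c1_c5 (h3 : (3 : F) = 0) : c1 F * c5 F = c0 F := by
  unfold c0 c1 c5
  rw [Matrix.mul_fin_two]
  apply m_eq <;> first | ring1 | linear_combination h3 | linear_combination -h3 | linear_combination 2 * h3 | linear_combination -2 * h3 | linear_combination 3 * h3 | linear_combination -3 * h3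

theorem c2_c3 (h3 : (3 : F) = 0) : c2 F * c3 F = c1 F := by
  unfold c1 c2 c3
  rw [Matrix.mul_fin_two]
  apply m_eq <;> first | ring1 | linear_combination h3 | linear_combination -h3 | linear_combination 2 * h3 | linear_combination -2 * h3 | linear_combination 3 * h3 | linear_combination -3 * h3

theorem c0_sq (h3 : (3 : F) = 0) : c0 F * c0 F = -1 := by
  unfold c0
  rw [Matrix.mul_fin_two, neg_one_eq]
  apply m_eq <;> first | ring1 | linear_combination h3 | linear_combination -h3 | linear_combination 2 * h3 | linear_combination -2 * h3 | linear_combination 3 * h3 | linear_combination -3 * h3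

theorem c0_cube (h3 : (3 : F) = 0) : c0 F * c0 F * c0 F = c3 F := by
  unfold c0 c3
  rw [Matrix.mul_fin_two, Matrix.mul_fin_two]
  apply m_eq <;> first | ring1 | linear_combination h3 | linear_combination -h3 | linear_combination 2 * h3 | linear_combination -2 * h3 | linear_combination 3 * h3 | linear_combination -3 * h3

theorem c1_cube (h3 : (3 : F) = 0) : c1 F * c1 F * c1 F = c4 F := by
  unfold c1 c4
  rw [Matrix.mul_fin_two, Matrix.mul_fin_two]
  apply m_eq <;> first | ring1 | linear_combination h3 | linear_combination -h3 | linear_combination 2 * h3 | linear_combination -2 * h3 | linear_combination 3 * h3 | linear_combination -3 * h3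

theorem c2_cube (h3 : (3 : F) = 0) : c2 F * c2 F * c2 F = c5 F := by
  unfold c2 c5
  rw [Matrix.mul_fin_two, Matrix.mul_fin_two]
  apply m_eq <;> first | ring1 | linear_combination h3 | linear_combination -h3 | linear_combination 2 * h3 | linear_combination -2 * h3 | linear_combination 3 * h3 | linear_combination -3 * h3

theorem qs_det : (qs F).det = 1 := by
  unfold qs
  rw [Matrix.det_fin_two_of]
  ring

theorem classif [Fintype F] (hq3 : Fintype.card F = 3) (y : Matrix (Fin 2) (Fin 2) F)
    (hdet : y.det = 1) (htr : y.trace = 0) :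
    y = c0 F ∨ y = c1 F ∨ y = c2 F ∨ y = c3 F ∨ y = c4 F ∨ y = c5 F := by
  have h3 := three hq3
  have e := Matrix.eta_fin_two y
  have hd : y 1 1 = - y 0 0 := by
    rw [Matrix.trace_fin_two] at htr
    linear_combination htr
  have hdet' : y 0 0 * y 1 1 - y 0 1 * y 1 0 = 1 := by
    rw [Matrix.det_fin_two] at hdet
    exact hdet
  rw [hd] at hdet'
  unfold c0 c1 c2 c3 c4 c5
  rcases tri hq3 (y 0 0) with h | h | h <;> rcases tri hq3 (y 0 1) with h' | h' | h' <;>
    rcases tri hq3 (y 1 0) with h'' | h'' | h'' <;> rw [h, h', h''] at hdet' <;> rw [e, hd, h, h', h''] <;>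
    first
    | (exfalso; apply one_ne_zero (α := F);
       first
       | linear_combination hdet'
       | linear_combination -hdet'
       | linear_combination hdet' + h3
       | linear_combination -hdet' + h3
       | linear_combination hdet' - h3
       | linear_combination -hdet' - h3)
    | (refine Or.inl ?_; apply m_eq <;> ring1)
    | (refine Or.inr (Or.inl ?_); apply m_eq <;> ring1)
    | (refine Or.inr (Or.inr (Or.inl ?_)); apply m_eq <;> ring1)
    | (refine Or.inr (Or.inr (Or.inr (Or.inl ?_))); apply m_eq <;> ring1)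
    | (refine Or.inr (Or.inr (Or.inr (Or.inr (Or.inl ?_)))); apply m_eq <;> ring1)
    | (refine Or.inr (Or.inr (Or.inr (Or.inr (Or.inr ?_)))); apply m_eq <;> ring1)

end Cfsg.Agent.Lib.Helper17.QGENAux

namespace Cfsg.Agent.Lib.Helper52.SP8EB

open Matrix Cfsg.Geo Cfsg.Agent.Lib.Helper71.Asch
open Cfsg.Agent.Lib.Helper17.QGENAux

variable {n : ℕ} {F : Type*} [Field F] [Fintype F]

theorem QGEN (hq3 : Fintype.card F = 3) : HQgen F := by
  intro a ha ha1 ham1 S hmul hconj hcomm
  have h3 := three hq3
  obtain ⟨hadet, hatr⟩ := ha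
  have hatr0 : a.trace = 0 := by
    rcases hatr with h | h | h
    · exact absurd h ha1
    · exact absurd h ham1
    · exact h
  have hs1 : (qs F).det = 1 := qs_det
  have hss : qs F * qt F = 1 := qs_qt h3
  have key : c0 F ∈ S ∨ c1 F ∈ S ∨ c2 F ∈ S := by
    rcases classif hq3 a hadet hatr0 with h | h | h | h | h | h
    · have h0 := hcomm (c3 F) (qs F) (qt F) (by rw [h]; exact c0_inv h3) hs1 hss
      rw [h, qs_c0 h3, c3_c1 h3] at h0
      exact Or.inr (Or.inr h0)
    · have h0 := hcomm (c4 F) (qs F) (qt F) (by rw [h]; exact c1_inv h3) hs1 hss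
      rw [h, qs_c1 h3, c4_c2 h3] at h0
      exact Or.inl h0
    · have h0 := hcomm (c5 F) (qs F) (qt F) (by rw [h]; exact c2_inv h3) hs1 hss
      rw [h, qs_c2 h3, c5_c0 h3] at h0
      exact Or.inr (Or.inl h0)
    · have h0 := hcomm (c0 F) (qs F) (qt F) (by rw [h]; exact c3_inv h3) hs1 hss
      rw [h, qs_c3 h3, c0_c4 h3] at h0
      exact Or.inr (Or.inr h0)
    · have h0 := hcomm (c1 F) (qs F) (qt F) (by rw [h]; exact c4_inv h3) hs1 hss
      rw [h, qs_c4 h3, c1_c5 h3] at h0
      exact Or.inl h0
    · have h0 := hcomm (c2 F) (qs F) (qt F) (by rw [h]; exact c5_inv h3) hs1 hss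
      rw [h, qs_c5 h3, c2_c3 h3] at h0
      exact Or.inr (Or.inl h0)
  have f01 : c0 F ∈ S → c1 F ∈ S := fun h => by
    have h0 := hconj _ h (qs F) (qt F) hs1 hss
    rwa [qs_c0 h3] at h0
  have f12 : c1 F ∈ S → c2 F ∈ S := fun h => by
    have h0 := hconj _ h (qs F) (qt F) hs1 hss
    rwa [qs_c1 h3] at h0
  have f20 : c2 F ∈ S → c0 F ∈ S := fun h => by
    have h0 := hconj _ h (qs F) (qt F) hs1 hss
    rwa [qs_c2 h3] at h0
  have h012 : c0 F ∈ S ∧ c1 F ∈ S ∧ c2 F ∈ S := by
    rcases key with h | h | h
    · exact ⟨h, f01 h, f12 (f01 h)⟩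
    · exact ⟨f20 (f12 h), h, f12 h⟩
    · exact ⟨f20 h, f01 (f20 h), h⟩
  obtain ⟨m0, m1, m2⟩ := h012
  have m3 : c3 F ∈ S := by
    have h0 := hmul _ (hmul _ m0 _ m0) _ m0
    rwa [c0_cube h3] at h0
  have m4 : c4 F ∈ S := by
    have h0 := hmul _ (hmul _ m1 _ m1) _ m1
    rwa [c1_cube h3] at h0
  have m5 : c5 F ∈ S := by
    have h0 := hmul _ (hmul _ m2 _ m2) _ m2
    rwa [c2_cube h3] at h0
  have mneg : (-1 : Matrix (Fin 2) (Fin 2) F) ∈ S := by
    have h0 := hmul _ m0 _ m0
    rwa [c0_sq h3] at h0
  have mone : (1 : Matrix (Fin 2) (Fin 2) F) ∈ S := by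
    have h0 := hmul _ mneg _ mneg
    rwa [neg_mul_neg, one_mul] at h0
  intro y hy
  obtain ⟨hydet, hy'⟩ := hy
  rcases hy' with h | h | h
  · rw [h]; exact mone
  · rw [h]; exact mneg
  · rcases classif hq3 y hydet h with h | h | h | h | h | h <;> rw [h] <;> assumption

end Cfsg.Agent.Lib.Helper52.SP8EB
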