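import Mathlib
import Cfsg.Agent.Lib.Helper8.TPFront

/-!
Project TP (S4033), FRONT piece F0: from the hypothesis "exactly two `p`-regular class sizes"
to the centralizer form `TwoReg p m G` together with a noncentral `p`-regular element.
-/

set_option autoImplicit false

namespace Cfsg.Agent.Lib.Helper17.TP

open Cfsg.Agent.Lib.Helper8.TP

universe u

theorem f0 : F0Stmt.{u} := by
  unfold F0Stmt
  intro G _ _ p hp h2
  obtain ⟨a, b, hab, hS⟩ := Set.ncard_eq_two.mp h2
  have hval : ∀ x : G, (orderOf x).Coprime p →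
      (Subgroup.centralizer ({x} : Set G)).index ∈ ({a, b} : Set ℕ) := by
    intro x hx
    rw [← hS, ← Cfsg.Agent.S4034.ncard_carrier_eq_index]
    exact ⟨⟨x, hx⟩, rfl⟩
  have h1mem : (1 : ℕ) ∈ ({a, b} : Set ℕ) := by
    have h := hval 1 (by simp)
    rwa [index_centralizer_eq_one_of_mem_center (Subgroup.one_mem _)] at h
  obtain ⟨m, hm1, hset⟩ : ∃ m : ℕ, m ≠ 1 ∧ ({a, b} : Set ℕ) = {1, m} := by
    rcases h1mem with h | h
    · exact ⟨b, fun hb => hab (by rw [← h, hb]), by rw [← h]⟩
    · rw [Set.mem_singleton_iff] at h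
      exact ⟨a, fun ha => hab (by rw [← h, ha]), by rw [← h, Set.pair_comm]⟩
  refine ⟨m, ?_, ?_⟩
  · intro x hx
    have h := hval x hx
    rw [hset] at h
    exact h
  · have hm : m ∈ Set.range (fun x : {x : G // (orderOf x).Coprime p} =>
        (ConjClasses.mk (x : G)).carrier.ncard) := by
      rw [hS, hset]
      exact Set.mem_insert_of_mem _ rfl
    obtain ⟨⟨x, hx⟩, hxm⟩ := hm
    refine ⟨x, hx, fun hc => hm1 ?_⟩
    rw [← hxm]
    show (ConjClasses.mk x).carrier.ncard = 1
    rw [Cfsg.Agent.S4034.ncard_carrier_eq_index, index_centralizer_eq_one_of_mem_center hc]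

end Cfsg.Agent.Lib.Helper17.TP
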